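import Cfsg.Agent.H61.Dade.XRep
import Cfsg.Agent.H12.Linear
import Mathlib.Data.ZMod.Basic

/-!
# Commutator signs, and fixed points of odd groups modulo `{1, z}`
-/

set_option autoImplicit false
set_option linter.unusedSectionVars false

open Cfsg
open scoped commutatorElement

namespace H61.Dade

universe u

variable {E : Type u} [Group E] [Finite E] {z : E}

open Classical in
/-- The commutator of two elements, as a sign. -/
noncomputable def sg (a b : E) : ℂˣ := if a * b = b * a then 1 else -1

theorem sg_eq_one {a b : E} : sg a b = 1 ↔ a * b = b * a := by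
  unfold sg
  split_ifs with h
  · simp [h]
  · refine iff_of_false (fun h1 => ?_) h
    have := congrArg Units.val h1
    norm_num at this

theorem sg_comm (a b : E) : sg a b = sg b a := by
  unfold sg
  by_cases h : a * b = b * a
  · rw [if_pos h, if_pos h.symm]
  · rw [if_neg h, if_neg (Ne.symm h)]

theorem sg_map (f : MulAut E) (a b : E) : sg (f a) (f b) = sg a b := by
  unfold sg
  by_cases h : a * b = b * a
  · rw [if_pos h, if_pos (by rw [← map_mul, h, map_mul])]
  · rw [if_neg h, if_neg (fun h' => h (f.injective (by rw [map_mul, map_mul, h'])))]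

theorem sg_cases (X : XSpec E z) (a b : E) :
    (sg a b = 1 ∧ a * b = b * a) ∨ (sg a b = -1 ∧ a * b = z * (b * a)) := by
  unfold sg
  by_cases h : a * b = b * a
  · exact Or.inl ⟨if_pos h, h⟩
  · exact Or.inr ⟨if_neg h, (X.comm a b).resolve_left h⟩

theorem sg_mul_right (X : XSpec E z) (a b c : E) : sg a (b * c) = sg a b * sg a c := by
  have hz : ∀ e : E, z * e ≠ e := fun e h => X.ne_one (mul_eq_right.1 h)
  have hzz : ∀ e : E, z * (z * e) = e := fun e => by rw [← mul_assoc, X.mul_self, one_mul]
  have hmove : ∀ e f : E, e * (z * f) = z * (e * f) := fun e f => by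
    rw [← mul_assoc, ← X.central, mul_assoc]
  rcases sg_cases X a b with ⟨hb, hb'⟩ | ⟨hb, hb'⟩ <;>
    rcases sg_cases X a c with ⟨hc, hc'⟩ | ⟨hc, hc'⟩ <;> rw [hb, hc] <;> unfold sg
  · rw [if_pos, one_mul]
    rw [← mul_assoc, hb', mul_assoc, hc', mul_assoc]
  · have h : a * (b * c) = z * (b * c * a) := by
      rw [← mul_assoc, hb', mul_assoc, hc', hmove, mul_assoc]
    rw [if_neg, one_mul]
    rw [h]
    exact hz _
  · have h : a * (b * c) = z * (b * c * a) := by
      rw [← mul_assoc, hb', mul_assoc z, mul_assoc b, hc', mul_assoc]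
    rw [if_neg, mul_one]
    rw [h]
    exact hz _
  · rw [if_pos, neg_mul_neg, one_mul]
    rw [← mul_assoc, hb', mul_assoc z, mul_assoc b, hc', hmove, hzz, mul_assoc]

theorem sg_mul_left (X : XSpec E z) (a b c : E) : sg (a * b) c = sg a c * sg b c := by
  rw [sg_comm, sg_mul_right X, sg_comm c a, sg_comm c b]

theorem sg_z (X : XSpec E z) (a : E) : sg a z = 1 := sg_eq_one.2 (X.central a).symm

/-- The subgroup `{1, z}`. -/
def zSub (X : XSpec E z) : Subgroup E where
  carrier := {e | e = 1 ∨ e = z}
  one_mem' := Or.inl rfl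
  mul_mem' := by
    rintro a b (rfl | rfl) (rfl | rfl)
    · exact Or.inl (one_mul 1)
    · exact Or.inr (one_mul _)
    · exact Or.inr (mul_one _)
    · exact Or.inl X.mul_self
  inv_mem' := by
    rintro a (rfl | rfl)
    · exact Or.inl inv_one
    · exact Or.inr (inv_eq_of_mul_eq_one_left X.mul_self)

theorem mem_zSub (X : XSpec E z) {e : E} : e ∈ zSub X ↔ e = 1 ∨ e = z := Iff.rfl

/-- An automorphism of odd order fixing a coset of `{1, z}` fixes its elements. -/
theorem fix_of_fix_mod (X : XSpec E z) {f : MulAut E} {n : ℕ} (hn : Odd n) (hf : f ^ n = 1)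
    {e : E} (he : f e = e ∨ f e = e * z) : f e = e := by
  rcases he with he | he
  · exact he
  · exfalso
    have h2 : ∀ j : ℕ, (f ^ (2 * j)) e = e := by
      intro j
      induction j with
      | zero => simp
      | succ j ih =>
        rw [show 2 * (j + 1) = 1 + (1 + 2 * j) by ring, pow_add, pow_add, pow_one,
          MulAut.mul_apply, MulAut.mul_apply, ih, he, map_mul, he, X.apply_eq, mul_assoc,
          X.mul_self, mul_one]
    obtain ⟨j, rfl⟩ := hn
    have h : (f ^ (2 * j + 1)) e = e * z := by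
      rw [pow_succ, MulAut.mul_apply, he, map_mul, h2, X.apply_eq]
    rw [hf, MulAut.one_apply] at h
    exact X.ne_one (mul_eq_left.1 h.symm)

theorem fix_of_fix_mod' (X : XSpec E z) {H : Type u} [Group H] (φ : H →* MulAut E) {k : H}
    (hk : Odd (orderOf k)) {e : E} (he : e⁻¹ * φ k e ∈ zSub X) : φ k e = e := by
  refine fix_of_fix_mod X hk (by rw [← map_pow, pow_orderOf_eq_one, map_one]) ?_
  rcases he with h | h
  · exact Or.inl (inv_mul_eq_one.1 h).symm
  · exact Or.inr (inv_mul_eq_iff_eq_mul.1 h)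

section Quot

variable (X : XSpec E z) (F : Subgroup E)

instance zSubOf_normal : ((zSub X).subgroupOf F).Normal := ⟨fun a ha c => by
  have : c * a * c⁻¹ = a := by
    rw [mul_inv_eq_iff_eq_mul]
    apply Subtype.ext
    rcases ha with h | h
    · show (c : E) * a = a * c
      rw [show (a : E) = 1 from h, mul_one, one_mul]
    · show (c : E) * a = a * c
      rw [show (a : E) = z from h, X.central]
  rwa [this]⟩

/-- `F` modulo `{1, z}`. -/
abbrev ZQ := ↥F ⧸ (zSub X).subgroupOf F

instance : CommGroup (ZQ X F) :=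
  { (inferInstance : Group (ZQ X F)) with
    mul_comm := fun p q => by
      induction p using QuotientGroup.induction_on with
      | H a =>
        induction q using QuotientGroup.induction_on with
        | H b =>
          rw [← QuotientGroup.mk_mul, ← QuotientGroup.mk_mul, QuotientGroup.eq]
          show ((a : E) * b)⁻¹ * ((b : E) * a) ∈ zSub X
          rcases X.comm a b with h | h <;> rw [h]
          · exact Or.inl (inv_mul_cancel _)
          · refine Or.inr ?_
            rw [mul_inv_rev, mul_assoc, inv_eq_of_mul_eq_one_left X.mul_self, X.central,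
              inv_mul_cancel_left] }

variable {H : Type u} [Group H] (φ : H →* MulAut E)

theorem exists_quotAct (hF : ∀ h : H, ∀ e ∈ F, φ h e ∈ F) :
    ∃ g : H → ZQ X F →* ZQ X F,
      ∀ h (e : F), g h (QuotientGroup.mk e) = QuotientGroup.mk ⟨φ h e, hF h e e.2⟩ := by
  have hF' : ∀ h : H, ∀ e : F, ((e : E) ∈ zSub X) → φ h e ∈ zSub X := by
    intro h e he
    rcases he with he | he
    · exact Or.inl (by rw [he, map_one])
    · exact Or.inr (by rw [he, X.apply_eq])
  exact ⟨fun h => QuotientGroup.map _ _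
    (MonoidHom.mk' (fun e : F => (⟨φ h e, hF h e e.2⟩ : F))
      (fun a b => Subtype.ext (map_mul (φ h) _ _))) (hF' h), fun h e => rfl⟩

/-- Products along an odd-order element: a coset fixed modulo `{1, z}` consists of fixed points. -/
theorem coset_eq_one (hF : ∀ h : H, ∀ e ∈ F, φ h e ∈ F) {g : H → ZQ X F →* ZQ X F}
    (hg : ∀ h (e : F), g h (QuotientGroup.mk e) = QuotientGroup.mk ⟨φ h e, hF h e e.2⟩)
    (S : Set H) (hodd : ∀ k ∈ S, Odd (orderOf k))
    (hfix : ∀ e ∈ F, (∀ k ∈ S, φ k e = e) → e = 1 ∨ e = z) (p : ZQ X F)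
    (hp : ∀ k ∈ S, g k p = p) : p = 1 := by
  induction p using QuotientGroup.induction_on with
  | H e =>
    rw [QuotientGroup.eq_one_iff]
    refine hfix e e.2 fun k hk => ?_
    refine fix_of_fix_mod' X φ (hodd k hk) ?_
    have := (hp k hk).symm.trans (hg k e)
    exact (QuotientGroup.eq.1 this :)

include X in
/-- A linear character invariant under an odd group with no fixed points is trivial. -/
theorem char_trivial (hF : ∀ h : H, ∀ e ∈ F, φ h e ∈ F) [Finite H] (K : Subgroup H)
    (hK : Odd (Nat.card K)) (hfpf : ∀ e ∈ F, (∀ k ∈ K, φ k e = e) → e = 1 ∨ e = z)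
    (χ : F →* ℂˣ) (hχz : ∀ e : F, (e : E) = z → χ e = 1)
    (hχ : ∀ k ∈ K, ∀ e : F, χ ⟨φ k e, hF k e e.2⟩ = χ e) (e : F) : χ e = 1 := by
  classical
  let : Fintype K := Fintype.ofFinite K
  obtain ⟨g, hg⟩ := exists_quotAct X F φ hF
  have hodd : ∀ k ∈ (K : Set H), Odd (orderOf k) := fun k hk =>
    hK.of_dvd_nat (K.orderOf_dvd_natCard hk)
  have hle : (zSub X).subgroupOf F ≤ χ.ker := by
    intro a ha
    rcases ha with h | h
    · have : a = 1 := Subtype.ext h
      simp [this]
    · exact hχz a h
  let χ' : ZQ X F →* ℂˣ := QuotientGroup.lift _ χ hle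
  let P : ZQ X F := ∏ k : K, g k (QuotientGroup.mk e)
  have hP : P = 1 := by
    refine coset_eq_one X F φ hF hg K hodd hfpf P fun k hk => ?_
    rw [map_prod]
    refine Fintype.prod_equiv (Equiv.mulLeft (⟨k, hk⟩ : K)) _ _ fun l => ?_
    simp [hg, MulAut.mul_apply]
  have h1 : χ' P = χ e ^ Nat.card K := by
    simp only [P, map_prod]
    rw [Finset.prod_congr rfl fun k _ => ?_, Finset.prod_const, Finset.card_univ,
      Nat.card_eq_fintype_card]
    rw [hg]
    exact hχ k k.2 e
  rw [hP, map_one] at h1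
  have h2 : χ e ^ 2 = 1 := by
    rw [← map_pow]
    rcases X.sq (e : E) with h | h
    · rw [show e ^ 2 = 1 from Subtype.ext (by simpa [pow_two] using h), map_one]
    · exact hχz _ (by simpa [pow_two] using h)
  obtain ⟨j, hj⟩ := hK
  rw [hj, pow_succ, pow_mul, h2, one_pow, one_mul] at h1
  exact h1.symm

include X in
/-- Two commuting elements of order `q` all of whose combinations act without fixed points cannot
act on a nontrivial space: sum over the lines. -/
theorem lines_trivial (hF : ∀ h : H, ∀ e ∈ F, φ h e ∈ F) (q : ℕ) [Fact q.Prime] (hq : Odd q)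
    (x y : H) (hxy : Commute x y) (hx : x ^ q = 1) (hy : y ^ q = 1)
    (hyfix : ∀ e ∈ F, φ y e = e → e = 1 ∨ e = z)
    (hxfix : ∀ j : ℕ, ∀ e ∈ F, φ (x * y ^ j) e = e → e = 1 ∨ e = z) :
    ∀ e ∈ F, e = 1 ∨ e = z := by
  classical
  intro e he
  obtain ⟨g, hg⟩ := exists_quotAct X F φ hF
  have hgm : ∀ (a b : H) (p : ZQ X F), g (a * b) p = g a (g b p) := by
    intro a b p
    induction p using QuotientGroup.induction_on with
    | H d => simp [hg, MulAut.mul_apply]
  have hg1 : ∀ p : ZQ X F, g 1 p = p := by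
    intro p
    induction p using QuotientGroup.induction_on with
    | H d => simp [hg]
  have hpow : ∀ (a : H), a ^ q = 1 → ∀ m n : ℕ, m % q = n % q → a ^ m = a ^ n := by
    intro a ha m n hmn
    rw [pow_eq_pow_mod m ha, hmn, ← pow_eq_pow_mod n ha]
  have hline : ∀ a : H, a ^ q = 1 → (∀ d ∈ F, φ a d = d → d = 1 ∨ d = z) → ∀ p : ZQ X F,
      ∏ i : ZMod q, g (a ^ i.val) p = 1 := by
    intro a ha hfix p
    refine coset_eq_one X F φ hF hg {a} (fun k hk => ?_) (fun d hd h => hfix d hd (h a rfl)) _
      (fun k hk => ?_)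
    · rw [Set.mem_singleton_iff.1 hk]
      exact hq.of_dvd_nat (orderOf_dvd_of_pow_eq_one ha)
    · rw [Set.mem_singleton_iff.1 hk, map_prod]
      refine Fintype.prod_equiv (Equiv.addLeft (1 : ZMod q)) _ _ fun i => ?_
      rw [← hgm, ← pow_succ', hpow a ha (i.val + 1) ((1 + i).val) (by
        rw [ZMod.val_add, ZMod.val_one, Nat.mod_mod, add_comm])]
      rfl
  let p : ZQ X F := QuotientGroup.mk ⟨e, he⟩
  have hprod : ∏ j : ZMod q, ∏ i : ZMod q, g ((x * y ^ j.val) ^ i.val) p = 1 :=
    Finset.prod_eq_one fun j _ => hline _ (by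
      rw [(hxy.pow_right _).mul_pow, hx, ← pow_mul, mul_comm, pow_mul, hy, one_pow, one_mul])
      (hxfix _) p
  rw [Finset.prod_comm, ← Finset.mul_prod_erase _ _ (Finset.mem_univ (0 : ZMod q)),
    Finset.prod_eq_one (s := Finset.univ.erase (0 : ZMod q)) (fun i hi => ?_), mul_one] at hprod
  swap
  · have hi0 : i ≠ 0 := (Finset.mem_erase.1 hi).1
    have h1 : ∀ j : ZMod q, g ((x * y ^ j.val) ^ i.val) p =
        g (x ^ i.val) (g (y ^ (j * i).val) p) := by
      intro j
      rw [← hgm, (hxy.pow_right _).mul_pow, ← pow_mul,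
        hpow y hy (j.val * i.val) ((j * i).val) (by rw [ZMod.val_mul, Nat.mod_mod])]
    rw [Finset.prod_congr rfl fun j _ => h1 j, ← map_prod,
      Fintype.prod_equiv (Equiv.mulRight₀ i hi0) (fun j => g (y ^ (j * i).val) p)
        (fun j => g (y ^ j.val) p) (fun j => rfl), hline y hy hyfix p, map_one]
  simp only [ZMod.val_zero, pow_zero, hg1, Finset.prod_const, Finset.card_univ, ZMod.card] at hprod
  have hsq : p ^ 2 = 1 := by
    rw [← QuotientGroup.mk_pow, QuotientGroup.eq_one_iff]
    show ((⟨e, he⟩ : F) ^ 2 : F).1 ∈ zSub X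
    simp only [SubmonoidClass.mk_pow, pow_two]
    exact X.sq e
  obtain ⟨j, hj⟩ := hq
  rw [hj, pow_succ, pow_mul, hsq, one_pow, one_mul] at hprod
  exact ((QuotientGroup.eq_one_iff _).1 hprod :)

end Quot

/-- A nonabelian invariant subgroup with trivial centre modulo `{1, z}` splits off. -/
theorem sup_centralizer_eq_top (X : XSpec E z) (U : Subgroup E)
    (hna : ∃ a ∈ U, ∃ b ∈ U, a * b ≠ b * a)
    (hcen : ∀ a ∈ U, (∀ b ∈ U, a * b = b * a) → a = 1 ∨ a = z) :
    U ⊔ Subgroup.centralizer (U : Set E) = ⊤ := by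
  classical
  have hzU : z ∈ U := by
    obtain ⟨a, ha, b, hb, h⟩ := hna
    have h1 : z = a * b * (b * a)⁻¹ := by
      rw [(X.comm a b).resolve_left h, mul_inv_cancel_right]
    rw [h1]
    exact mul_mem (mul_mem ha hb) (inv_mem (mul_mem hb ha))
  let Θ : U →* (U →* ℂˣ) := MonoidHom.mk'
    (fun a => MonoidHom.mk' (fun b : U => sg (a : E) b) (fun b c => sg_mul_right X _ _ _))
    (fun a b => MonoidHom.ext fun c => sg_mul_left X _ _ _)
  have hcomm : commutator ↥U = (zSub X).subgroupOf U := by
    refine le_antisymm ?_ ?_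
    · rw [commutator_def, Subgroup.commutator_le]
      intro a _ b _
      show (a : E) * b * (a : E)⁻¹ * (b : E)⁻¹ ∈ zSub X
      rcases X.comm a b with h | h <;> rw [h]
      · exact Or.inl (by simp [mul_assoc])
      · exact Or.inr (by simp [mul_assoc])
    · intro c hc
      rcases hc with h | h
      · rw [show c = 1 from Subtype.ext h]; exact one_mem _
      · obtain ⟨a, ha, b, hb, hne⟩ := hna
        have hmem : ⁅(⟨a, ha⟩ : U), ⟨b, hb⟩⁆ ∈ commutator ↥U := by
          rw [commutator_def]
          exact Subgroup.commutator_mem_commutator (Subgroup.mem_top _) (Subgroup.mem_top _)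
        have heq : c = ⁅(⟨a, ha⟩ : U), ⟨b, hb⟩⁆ := by
          apply Subtype.ext
          show (c : E) = a * b * a⁻¹ * b⁻¹
          rw [(X.comm a b).resolve_left hne, show (c : E) = z from h]
          simp [mul_assoc]
        rw [heq]
        exact hmem
  have hker : Θ.ker = (zSub X).subgroupOf U := by
    ext a
    constructor
    · intro ha
      exact hcen a a.2 fun b hb => sg_eq_one.1 (DFunLike.congr_fun ha ⟨b, hb⟩)
    · intro ha
      refine MonoidHom.ext fun b => ?_
      show sg (a : E) b = 1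
      rw [sg_comm]
      rcases ha with h | h
      · rw [show (a : E) = 1 from h]; exact sg_eq_one.2 (by simp)
      · rw [show (a : E) = z from h]; exact sg_z X _
  let : Fintype U := Fintype.ofFinite U
  have hcardhom : Nat.card (U →* ℂˣ) = ((zSub X).subgroupOf U).index := by
    rw [H12.card_monoidHom_units, hcomm]
  have : Finite (U →* ℂˣ) :=
    Nat.finite_of_card_ne_zero (by rw [hcardhom]; exact Subgroup.index_ne_zero_of_finite)
  have hsurj : Function.Surjective Θ := by
    rw [← MonoidHom.range_eq_top]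
    apply Subgroup.eq_top_of_card_eq
    rw [← Subgroup.index_ker, hker, hcardhom]
  refine Subgroup.eq_top_iff' _ |>.2 fun e => ?_
  obtain ⟨a, ha⟩ := hsurj (MonoidHom.mk' (fun b : U => sg e b) (fun b c => sg_mul_right X _ _ _))
  have hc : (a : E)⁻¹ * e ∈ Subgroup.centralizer (U : Set E) := by
    intro b hb
    refine (sg_eq_one.1 ?_).symm
    have h1 : sg (a : E) b = sg e b := DFunLike.congr_fun ha ⟨b, hb⟩
    have h2 : sg ((a : E)⁻¹ * a) b = 1 := by
      rw [inv_mul_cancel]; exact sg_eq_one.2 (by simp)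
    rw [sg_mul_left X] at h2
    rw [sg_mul_left X, ← h1, h2]
  have := mul_mem (Subgroup.mem_sup_left (T := Subgroup.centralizer (U : Set E)) a.2)
    (Subgroup.mem_sup_right (S := U) hc)
  simpa using this

end H61.Dade
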