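import Cfsg.Agent.H61.Dade.XRep
import Mathlib.GroupTheory.PGroup
import Mathlib.GroupTheory.QuotientGroup.Basic

/-!
# Reduction through an invariant isotropic subgroup
-/

set_option autoImplicit false
set_option linter.unusedSectionVars false

open Cfsg Module

namespace H61.Dade

universe u

/-- Only `1` and `z` are fixed by the image of `K`. -/
def FPF {E : Type u} [Group E] (z : E) {H : Type u} [Group H] (φ : H →* MulAut E)
    (K : Subgroup H) : Prop :=
  ∀ e : E, (∀ k ∈ K, φ k e = e) → e = 1 ∨ e = z

/-- The induction predicate. -/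
def Good (E : Type u) [Group E] (z : E) : Prop :=
  ∀ (V : Type) [AddCommGroup V] [Module ℂ V] [FiniteDimensional ℂ V] (ρ : Representation ℂ E V)
    [ρ.IsIrreducible], ρ z = -1 → ∀ (H : Type u) [Group H] [Finite H] (φ : H →* MulAut E)
    (T K : Subgroup H), IsPGroup 2 T → Odd (Nat.card K) →
    (∀ t ∈ T, ∀ k ∈ K, t * k * t⁻¹ ∈ K) → FPF z φ K → Lift ρ (φ.comp T.subtype)

variable {E : Type u} [Group E] [Finite E] {z : E}

/-- `Good` holds below `E`. -/
def GoodBelow (E : Type u) [Group E] : Prop :=
  ∀ (Q : Type u) [Group Q] [Finite Q] (zq : Q),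
    Nat.card Q < Nat.card E → XSpec Q zq → Good Q zq

/-- Averaging over a group of odd order acting on an elementary abelian 2-group, written through a
cocycle. -/
theorem exists_fix {M : Type*} [CommGroup M] (hM : ∀ m : M, m * m = 1) {K : Type*} [Group K]
    [Finite K] (hK : Odd (Nat.card K)) (g : K → M → M) (hg : ∀ k m n, g k (m * n) = g k m * g k n)
    (f : K → M) (hf : ∀ k l, f (k * l) = f k * g k (f l)) :
    ∃ a : M, ∀ k, f k * g k a = a := by
  classical
  let : Fintype K := Fintype.ofFinite K
  refine ⟨∏ l, f l, fun k => ?_⟩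
  let G : M →* M := MonoidHom.mk' (g k) (hg k)
  have h : ∏ l, f l = ∏ l, (f k * g k (f l)) := by
    rw [← Finset.prod_congr rfl fun l _ => hf k l]
    exact (Fintype.prod_equiv (Equiv.mulLeft k) _ _ fun l => rfl).symm
  rw [Finset.prod_mul_distrib, Finset.prod_const, Finset.card_univ, ← Nat.card_eq_fintype_card]
    at h
  obtain ⟨j, hj⟩ := hK
  have hpow : f k ^ (2 * j + 1) = f k := by
    rw [pow_succ, pow_mul, sq, hM, one_pow, one_mul]
  rw [hj, hpow] at h
  rw [show g k (∏ l, f l) = ∏ l, g k (f l) from map_prod G f Finset.univ]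
  exact h.symm

theorem lift_of_isotropic (X : XSpec E z) (ih : GoodBelow E) {V : Type} [AddCommGroup V]
    [Module ℂ V] [FiniteDimensional ℂ V] (ρ : Representation ℂ E V) [ρ.IsIrreducible]
    (hz : ρ z = -1) {H : Type u} [Group H] [Finite H] (φ : H →* MulAut E) (T K : Subgroup H)
    (hT : IsPGroup 2 T) (hK : Odd (Nat.card K)) (hTK : ∀ t ∈ T, ∀ k ∈ K, t * k * t⁻¹ ∈ K)
    (hfpf : FPF z φ K) (A : Subgroup E) (hA0 : A ≠ ⊥) (hAz : z ∉ A)
    (hAc : ∀ a ∈ A, ∀ b ∈ A, a * b = b * a) (hAs : ∀ a ∈ A, a * a = 1)
    (hAinv : ∀ (h : H), ∀ a ∈ A, φ h a ∈ A) : Lift ρ (φ.comp T.subtype) := by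
  classical
  let : Fintype E := Fintype.ofFinite E
  let : Fintype A := Fintype.ofFinite A
  set C := Subgroup.centralizer (A : Set E) with hC
  have hmemC : ∀ c : E, c ∈ C ↔ ∀ a ∈ A, a * c = c * a := fun c => Iff.rfl
  have hzC : z ∈ C := (hmemC z).2 fun a _ => (X.central a).symm
  have hAC : A ≤ C := fun a ha => (hmemC a).2 fun b hb => hAc b hb a ha
  set A' : Subgroup C := A.subgroupOf C with hA'
  have hA'n : A'.Normal := ⟨fun a ha c => by
    have : c * a * c⁻¹ = a := by
      rw [mul_inv_eq_iff_eq_mul]
      exact Subtype.ext ((hmemC c).1 c.2 a ha).symm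
    rwa [this]⟩
  -- the fixed space
  let π : Module.End ℂ V := (Fintype.card A : ℂ)⁻¹ • ∑ a : A, ρ (a : E)
  have hcard : (Fintype.card A : ℂ) ≠ 0 := Nat.cast_ne_zero.2 Fintype.card_ne_zero
  let W : Submodule ℂ V :=
    { carrier := {v | ∀ a : A, ρ (a : E) v = v}
      add_mem' := fun hx hy a => by rw [map_add, hx a, hy a]
      zero_mem' := fun a => map_zero _
      smul_mem' := fun c x hx a => by rw [map_smul, hx a] }
  have hπa : ∀ a : A, ρ (a : E) * π = π := by
    intro a
    simp only [π, mul_smul_comm, Finset.mul_sum]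
    congr 1
    exact Fintype.sum_equiv (Equiv.mulLeft a) _ _ fun b => by simp
  have hπa' : ∀ a : A, π * ρ (a : E) = π := by
    intro a
    simp only [π, smul_mul_assoc, Finset.sum_mul]
    congr 1
    exact Fintype.sum_equiv (Equiv.mulRight a) _ _ fun b => by simp
  have hπW : ∀ v, π v ∈ W := fun v a => LinearMap.congr_fun (hπa a) v
  have hπfix : ∀ w ∈ W, π w = w := by
    intro w hw
    simp only [π, LinearMap.smul_apply, LinearMap.coe_sum, Finset.sum_apply]
    rw [Finset.sum_congr rfl fun a _ => hw a, Finset.sum_const, Finset.card_univ, ← Nat.cast_smul_eq_nsmul ℂ,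
      smul_smul, inv_mul_cancel₀ hcard, one_smul]
  have hπout : ∀ e ∉ C, ∀ w ∈ W, π (ρ e w) = 0 := by
    intro e he w hw
    obtain ⟨a, ha, hne⟩ : ∃ a ∈ A, a * e ≠ e * a := by
      simpa [hmemC] using he
    have h1 := (X.comm a e).resolve_left hne
    have h2 : ρ a (ρ e w) = -ρ e w := by
      rw [← Module.End.mul_apply, ← map_mul, h1, map_mul, map_mul, hz, neg_one_mul,
        LinearMap.neg_apply, Module.End.mul_apply, hw ⟨a, ha⟩]
    have h3 := LinearMap.congr_fun (hπa' ⟨a, ha⟩) (ρ e w)
    rw [Module.End.mul_apply, h2, map_neg, neg_eq_iff_add_eq_zero, ← two_smul ℂ] at h3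
    exact (smul_eq_zero.1 h3).resolve_left two_ne_zero
  have htrace : ∀ c : E, (∀ a ∈ A, c * a ≠ 1 ∧ c * a ≠ z) →
      LinearMap.trace ℂ V (ρ c * π) = 0 := by
    intro c hc
    simp only [π, mul_smul_comm, Finset.mul_sum, map_smul, map_sum, ← map_mul]
    rw [Finset.sum_eq_zero, smul_zero]
    exact fun a _ => char_vanish X ρ hz (hc a a.2).1 (hc a a.2).2
  have htrπ : LinearMap.trace ℂ V π = (Fintype.card A : ℂ)⁻¹ * (finrank ℂ V : ℂ) := by
    simp only [π, map_smul, map_sum, smul_eq_mul]
    rw [Finset.sum_eq_single (1 : A)]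
    · simp
    · intro a _ ha
      exact char_vanish X ρ hz (fun h => ha (Subtype.ext h)) (fun h => hAz (h ▸ a.2))
    · simp
  have hposV : 0 < finrank ℂ V := H12.finrank_pos_of_isIrreducible ρ
  have hπ0 : π ≠ 0 := by
    intro h
    rw [h, map_zero] at htrπ
    rcases mul_eq_zero.1 htrπ.symm with h' | h'
    · exact inv_ne_zero hcard h'
    · exact hposV.ne' (by exact_mod_cast h')
  have hW0 : W ≠ ⊥ := by
    intro h
    apply hπ0
    ext v
    have := hπW v
    rw [h, Submodule.mem_bot] at this
    exact this
  -- the representation of the quotient on the fixed space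
  have hWC : ∀ c ∈ C, ∀ w ∈ W, ρ c w ∈ W := by
    intro c hc w hw a
    rw [← Module.End.mul_apply, ← map_mul, (hmemC c).1 hc a a.2, map_mul, Module.End.mul_apply,
      hw a]
  let σC : Representation ℂ C W :=
    { toFun := fun c => (ρ (c : E)).restrict (hWC c c.2)
      map_one' := by ext w; simp
      map_mul' := fun a b => by ext w; simp }
  have hσC : ∀ (c : C) (w : W), ((σC c w : W) : V) = ρ (c : E) w := fun c w => rfl
  have hσA : A' ≤ MonoidHom.ker σC := by
    intro a ha
    refine LinearMap.ext fun w => Subtype.ext ?_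
    exact w.2 ⟨(a : E), ha⟩
  let σ : Representation ℂ (C ⧸ A') W := QuotientGroup.lift A' σC hσA
  have hσ : ∀ c : C, σ (QuotientGroup.mk c) = σC c := fun c => rfl
  let zq : C ⧸ A' := QuotientGroup.mk ⟨z, hzC⟩
  have hσz : σ zq = -1 := by
    refine LinearMap.ext fun w => Subtype.ext ?_
    show ρ z (w : V) = _
    rw [hz]
    rfl
  have : σ.IsIrreducible := by
    have : Nontrivial W := (Submodule.nontrivial_iff_ne_bot).2 hW0
    refine @IsSimpleOrder.mk _ _ _ ⟨⊥, ⊤, fun h => bot_ne_top (α := Submodule ℂ W)
      (congrArg Subrepresentation.toSubmodule h)⟩ fun b => ?_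
    by_cases hb : b.toSubmodule = ⊥
    · exact Or.inl (Subrepresentation.toSubmodule_injective hb)
    · refine Or.inr (Subrepresentation.toSubmodule_injective ?_)
      obtain ⟨w0, hw0, hw0'⟩ := (Submodule.ne_bot_iff _).1 hb
      let S : Subrepresentation ρ :=
        ⟨Submodule.span ℂ {v | ∃ (e : E) (w : W), w ∈ b.toSubmodule ∧ v = ρ e w}, by
          intro g v hv
          revert v
          show Submodule.span ℂ _ ≤ Submodule.comap (ρ g) (Submodule.span ℂ _)
          rw [Submodule.span_le]
          rintro _ ⟨e, w, hw, rfl⟩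
          exact Submodule.subset_span ⟨g * e, w, hw, by rw [map_mul]; rfl⟩⟩
      have hS : S.toSubmodule = ⊤ := by
        rcases IsSimpleOrder.eq_bot_or_eq_top S with h | h
        · exfalso
          have h1 : (w0 : V) ∈ S.toSubmodule :=
            Submodule.subset_span ⟨1, w0, hw0, by simp⟩
          rw [h] at h1
          exact hw0' (Subtype.ext ((Submodule.mem_bot ℂ).1 h1))
        · exact congrArg Subrepresentation.toSubmodule h
      have key : S.toSubmodule ≤ (b.toSubmodule.map W.subtype).comap π := by
        refine Submodule.span_le.2 ?_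
        rintro _ ⟨e, w, hw, rfl⟩
        show π (ρ e w) ∈ b.toSubmodule.map W.subtype
        by_cases he : e ∈ C
        · rw [hπfix _ (hWC e he w w.2)]
          exact ⟨σ (QuotientGroup.mk ⟨e, he⟩) w, b.apply_mem_toSubmodule _ hw, rfl⟩
        · rw [hπout e he w w.2]
          exact zero_mem _
      rw [hS] at key
      refine Submodule.eq_top_iff'.2 fun w => ?_
      obtain ⟨w', hw', heq⟩ := key (Submodule.mem_top (x := (w : V)))
      rw [hπfix _ w.2] at heq
      rwa [← Subtype.ext heq]
  have hzq1 : zq ≠ 1 := fun h => hAz ((QuotientGroup.eq_one_iff (⟨z, hzC⟩ : C)).1 h)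
  have Xq : XSpec (C ⧸ A') zq :=
    { ne_one := hzq1
      mul_self := congrArg (QuotientGroup.mk (s := A'))
        (Subtype.ext X.mul_self : (⟨z, hzC⟩ : C) * ⟨z, hzC⟩ = 1)
      central := by
        intro q
        induction q using QuotientGroup.induction_on with
        | H c => exact congrArg (QuotientGroup.mk (s := A')) (Subtype.ext (X.central c))
      sq := by
        intro q
        induction q using QuotientGroup.induction_on with
        | H c =>
          exact (X.sq c).imp (fun h => congrArg (QuotientGroup.mk (s := A')) (Subtype.ext h))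
            (fun h => congrArg (QuotientGroup.mk (s := A')) (Subtype.ext h))
      comm := by
        intro p q
        induction p using QuotientGroup.induction_on with
        | H a =>
          induction q using QuotientGroup.induction_on with
          | H b =>
            exact (X.comm a b).imp
              (fun h => congrArg (QuotientGroup.mk (s := A')) (Subtype.ext h))
              (fun h => congrArg (QuotientGroup.mk (s := A')) (Subtype.ext h))
      center := by
        intro q hq
        induction q using QuotientGroup.induction_on with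
        | H c =>
          obtain ⟨s, hs⟩ := H12.exists_scalar_of_commute σ (σ (QuotientGroup.mk c)) (fun p => by
            rw [← map_mul, hq, map_mul])
          have hs0 : s ≠ 0 := by
            rintro rfl
            rw [zero_smul] at hs
            obtain ⟨w, hw, hw'⟩ := (Submodule.ne_bot_iff _).1 hW0
            apply hw'
            have h1 : σ (QuotientGroup.mk c⁻¹) (σ (QuotientGroup.mk c) ⟨w, hw⟩) = ⟨w, hw⟩ := by
              rw [← Module.End.mul_apply, ← map_mul, ← QuotientGroup.mk_mul, inv_mul_cancel,
                QuotientGroup.mk_one, map_one, Module.End.one_apply]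
            rw [hs, LinearMap.zero_apply, map_zero] at h1
            exact (congrArg Subtype.val h1).symm
          by_contra hcon
          simp only [not_or] at hcon
          have hc : ρ (c : E) * π = s • π := by
            ext v
            have h1 := congrArg Subtype.val (LinearMap.congr_fun hs ⟨π v, hπW v⟩)
            exact h1
          have h1 : LinearMap.trace ℂ V (ρ (c : E) * π) = 0 := by
            refine htrace c fun a ha => ⟨fun h => hcon.1 ?_, fun h => hcon.2 ?_⟩
            · rw [QuotientGroup.eq_one_iff]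
              show (c : E) ∈ A
              rw [eq_inv_of_mul_eq_one_left h]
              exact inv_mem ha
            · refine (QuotientGroup.eq.2 ?_)
              show (c : E)⁻¹ * z ∈ A
              rw [← h, inv_mul_cancel_left]
              exact ha
          rw [hc, map_smul, htrπ, smul_eq_mul] at h1
          rcases mul_eq_zero.1 h1 with h' | h'
          · exact hs0 h'
          · rcases mul_eq_zero.1 h' with h'' | h''
            · exact inv_ne_zero hcard h''
            · exact hposV.ne' (by exact_mod_cast h'') }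
  -- the induced action
  have hCinv : ∀ (h : H), ∀ c ∈ C, φ h c ∈ C := by
    intro h c hc
    refine (hmemC _).2 fun a ha => ?_
    have h1 := congrArg (φ h) ((hmemC c).1 hc _ (hAinv h⁻¹ a ha))
    simpa [map_inv] using h1
  let actC : H →* MulAut C :=
    { toFun := fun h =>
        { toFun := fun c => ⟨φ h c, hCinv h c c.2⟩
          invFun := fun c => ⟨φ h⁻¹ c, hCinv h⁻¹ c c.2⟩
          left_inv := fun c => Subtype.ext (by simp)
          right_inv := fun c => Subtype.ext (by simp)
          map_mul' := fun a b => Subtype.ext (map_mul (φ h) _ _) }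
      map_one' := by ext c; simp
      map_mul' := fun a b => by ext c; simp [MulAut.mul_apply] }
  have hactA : ∀ h : H, A'.map ((actC h : C ≃* C) : C →* C) = A' := by
    intro h
    ext c
    constructor
    · rintro ⟨a, ha, rfl⟩
      exact hAinv h _ ha
    · intro hc
      refine ⟨⟨φ h⁻¹ c, hCinv h⁻¹ c c.2⟩, hAinv h⁻¹ _ hc, Subtype.ext ?_⟩
      show φ h (φ h⁻¹ c) = c
      simp
  let ψ : H →* MulAut (C ⧸ A') :=
    { toFun := fun h => QuotientGroup.congr A' A' (actC h) (hactA h)
      map_one' := by
        refine MulEquiv.ext fun q => ?_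
        induction q using QuotientGroup.induction_on with
        | H c =>
          rw [QuotientGroup.congr_mk, map_one]
          rfl
      map_mul' := fun a b => by
        refine MulEquiv.ext fun q => ?_
        induction q using QuotientGroup.induction_on with
        | H c =>
          rw [QuotientGroup.congr_mk, MulAut.mul_apply, QuotientGroup.congr_mk,
            QuotientGroup.congr_mk, map_mul, MulAut.mul_apply] }
  have hψ : ∀ (h : H) (c : C),
      ψ h (QuotientGroup.mk c) = QuotientGroup.mk ⟨φ h c, hCinv h c c.2⟩ := fun h c =>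
    QuotientGroup.congr_mk A' A' (actC h) (hactA h) c
  have hψfpf : FPF zq ψ K := by
    intro q hq
    induction q using QuotientGroup.induction_on with
    | H c =>
      have hk : ∀ k : K, (c : E)⁻¹ * φ (k : H) c ∈ A := fun k =>
        ((QuotientGroup.eq (s := A')).1 ((hq k k.2).symm.trans (hψ k c)) :)
      letI : CommGroup A :=
        { (inferInstance : Group A) with mul_comm := fun a b => Subtype.ext (hAc a a.2 b b.2) }
      obtain ⟨a, ha⟩ := exists_fix (M := A) (fun m => Subtype.ext (hAs m m.2)) hK
        (fun k a => ⟨φ (k : H) a, hAinv k a a.2⟩)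
        (fun k m n => Subtype.ext (map_mul (φ (k : H)) _ _))
        (fun k => ⟨(c : E)⁻¹ * φ (k : H) c, hk k⟩) (fun k l => Subtype.ext (by
          simp [mul_assoc, MulAut.mul_apply]))
      have hfix : ∀ k ∈ K, φ k ((c : E) * a) = (c : E) * a := by
        intro k hk'
        have h1 := congrArg Subtype.val (ha ⟨k, hk'⟩)
        simp only [Subgroup.coe_mul] at h1
        rw [map_mul]
        calc φ k c * φ k a = (c : E) * ((c : E)⁻¹ * φ k c * φ k a) := by
              rw [← mul_assoc, mul_inv_cancel_left]
          _ = (c : E) * a := by rw [h1]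
      rcases hfpf _ hfix with h | h
      · left
        rw [QuotientGroup.eq_one_iff]
        show (c : E) ∈ A
        rw [eq_inv_of_mul_eq_one_left h]
        exact inv_mem a.2
      · right
        refine QuotientGroup.eq.2 ?_
        show (c : E)⁻¹ * z ∈ A
        rw [← h, inv_mul_cancel_left]
        exact a.2
  have hlt : Nat.card (C ⧸ A') < Nat.card E := by
    have h1 := Subgroup.card_eq_card_quotient_mul_card_subgroup A'
    have h2 : Nat.card C ≤ Nat.card E := Subgroup.card_le_card_group C
    have h3 : 1 < Nat.card A' := by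
      rw [Nat.card_congr (Subgroup.subgroupOfEquivOfLe hAC).toEquiv]
      exact Subgroup.one_lt_card_iff_ne_bot A |>.2 hA0
    have h4 : 0 < Nat.card (C ⧸ A') := Nat.card_pos
    nlinarith
  obtain ⟨D, hD⟩ := ih (C ⧸ A') zq hlt Xq W σ hσz H ψ T K hT hK hTK hψfpf
  -- extend the operators to the whole space
  choose M hM using fun t : T => exists_intertwiner X ρ hz (φ (t : H))
  have hMW : ∀ (P : (Module.End ℂ V)ˣ) (h : H),
      (∀ e, (P : Module.End ℂ V) * ρ e = ρ (φ h e) * (P : Module.End ℂ V)) →
      ∀ w ∈ W, (P : Module.End ℂ V) w ∈ W := by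
    intro P h hP w hw a
    have h1 := LinearMap.congr_fun (hP (φ h⁻¹ a)) w
    simp only [Module.End.mul_apply] at h1
    rw [hw ⟨_, hAinv h⁻¹ a a.2⟩] at h1
    simpa [map_inv] using h1.symm
  have hfix : ∀ t : T, ∃ P : (Module.End ℂ V)ˣ,
      (∀ e, (P : Module.End ℂ V) * ρ e = ρ (φ (t : H) e) * (P : Module.End ℂ V)) ∧
      ∀ w : W, (P : Module.End ℂ V) w = (((D t : Module.End ℂ W) w : W) : V) := by
    intro t
    let M1 : Module.End ℂ W := (M t : Module.End ℂ V).restrict (hMW _ _ (hM t))
    obtain ⟨c, hc⟩ := H12.exists_scalar_of_commute σ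
      (((D t)⁻¹ : (Module.End ℂ W)ˣ) * M1) (fun q => by
        induction q using QuotientGroup.induction_on with
        | H c =>
          have h1 : M1 * σ (QuotientGroup.mk c) =
              σ (ψ t (QuotientGroup.mk c)) * M1 := by
            rw [hψ]
            exact LinearMap.ext fun w => Subtype.ext (LinearMap.congr_fun (hM t c) w)
          have h2 : σ (QuotientGroup.mk c) * (((D t)⁻¹ : (Module.End ℂ W)ˣ) : Module.End ℂ W) =
              (((D t)⁻¹ : (Module.End ℂ W)ˣ) : Module.End ℂ W) * σ (ψ t (QuotientGroup.mk c)) := by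
            rw [Units.eq_inv_mul_iff_mul_eq, ← mul_assoc, Units.mul_inv_eq_iff_eq_mul]
            exact hD t (QuotientGroup.mk c)
          rw [mul_assoc, h1, ← mul_assoc, ← h2, mul_assoc])
    have hM1 : M1 = c • (D t : Module.End ℂ W) := by
      rw [← Units.mul_inv_cancel_left (D t) M1, hc, mul_smul_comm, mul_one]
    have hc0 : c ≠ 0 := by
      rintro rfl
      obtain ⟨w, hw, hw'⟩ := (Submodule.ne_bot_iff _).1 hW0
      rw [zero_smul] at hM1
      apply hw'
      have h1 : (M t : Module.End ℂ V) w = 0 :=
        congrArg Subtype.val (LinearMap.congr_fun hM1 ⟨w, hw⟩)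
      have h2 := congrArg (((M t)⁻¹ : (Module.End ℂ V)ˣ) : Module.End ℂ V) h1
      rwa [map_zero, ← Module.End.mul_apply, Units.inv_mul] at h2
    refine ⟨scal V (Units.mk0 c hc0)⁻¹ * M t, fun e => ?_, fun w => ?_⟩
    · simp only [Units.val_mul, scal_val, smul_mul_assoc, one_mul, mul_smul_comm]
      rw [hM t e]
    · have h1 : (M t : Module.End ℂ V) w = c • (((D t : Module.End ℂ W) w : W) : V) :=
        congrArg Subtype.val (LinearMap.congr_fun hM1 w)
      rw [Units.val_mul, Module.End.mul_apply, scal_val, h1, LinearMap.smul_apply,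
        Module.End.one_apply, Units.val_inv_eq_inv_val, Units.val_mk0, inv_smul_smul₀ hc0]
  choose P hP hPW using hfix
  have huniq : ∀ (R R' : (Module.End ℂ V)ˣ) (h : H),
      (∀ e, (R : Module.End ℂ V) * ρ e = ρ (φ h e) * (R : Module.End ℂ V)) →
      (∀ e, (R' : Module.End ℂ V) * ρ e = ρ (φ h e) * (R' : Module.End ℂ V)) →
      (∀ w : W, (R : Module.End ℂ V) w = (R' : Module.End ℂ V) w) → R = R' := by
    intro R R' h hR hR' heq
    obtain ⟨c, hc⟩ := scal_of_commute ρ (R'⁻¹ * R) (fun e => by
      rw [Units.val_mul, mul_assoc, hR e, ← mul_assoc, ← mul_assoc, Units.mul_left_inj,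
        Units.inv_mul_eq_iff_eq_mul, ← mul_assoc, hR' e, Units.mul_inv_cancel_right])
    have hRc : R = R' * scal V c := by rw [← hc, mul_inv_cancel_left]
    obtain ⟨w, hw, hw'⟩ := (Submodule.ne_bot_iff _).1 hW0
    have h1 := heq ⟨w, hw⟩
    rw [hRc, Units.val_mul, Module.End.mul_apply, scal_val, LinearMap.smul_apply,
      Module.End.one_apply, map_smul] at h1
    have h2 : ((c : ℂ) - 1) • (R' : Module.End ℂ V) w = 0 := by
      rw [sub_smul, one_smul, h1, sub_self]
    rcases smul_eq_zero.1 h2 with h3 | h3
    · rw [hRc, show c = 1 from Units.ext (sub_eq_zero.1 h3), map_one, mul_one]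
    · exfalso
      apply hw'
      have h4 := congrArg (((R')⁻¹ : (Module.End ℂ V)ˣ) : Module.End ℂ V) h3
      rwa [map_zero, ← Module.End.mul_apply, Units.inv_mul] at h4
  have hmul : ∀ s t : T, P (s * t) = P s * P t := by
    intro s t
    refine huniq _ _ ((s : H) * t) (hP (s * t)) (fun e => ?_) (fun w => ?_)
    · rw [Units.val_mul, mul_assoc, hP t e, ← mul_assoc, hP s, mul_assoc, map_mul,
        MulAut.mul_apply]
    · rw [hPW, Units.val_mul, Module.End.mul_apply, hPW t w, hPW s, map_mul, Units.val_mul,
        Module.End.mul_apply]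
  exact ⟨MonoidHom.mk' P hmul, fun t e => hP t e⟩

end H61.Dade
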