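import Cfsg.Agent.H61.Dade.Prod
import Cfsg.Agent.H61.Dade.Iso
import Cfsg.Agent.H61.Dade.Comm
import Mathlib.GroupTheory.Sylow
import Mathlib.GroupTheory.Solvable
import Mathlib.RingTheory.ZMod.UnitsCyclic
import Cfsg.Agent.H16.OddOrder

/-!
# The irreducible step
-/

set_option autoImplicit false
set_option linter.unusedSectionVars false

open Cfsg Module

namespace H61.Dade

universe u

variable {E : Type u} [Group E] [Finite E] {z : E} {H : Type u} [Group H] [Finite H]

/-- Restriction of an action to an invariant subgroup. -/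
def restrictHom (φ : H →* MulAut E) (U : Subgroup E) (hU : ∀ (h : H), ∀ e ∈ U, φ h e ∈ U) :
    H →* MulAut U where
  toFun h :=
    { toFun := fun e => ⟨φ h e, hU h e e.2⟩
      invFun := fun e => ⟨φ h⁻¹ e, hU h⁻¹ e e.2⟩
      left_inv := fun e => Subtype.ext (by simp)
      right_inv := fun e => Subtype.ext (by simp)
      map_mul' := fun a b => Subtype.ext (map_mul (φ h) _ _) }
  map_one' := by ext e; simp
  map_mul' a b := by ext e; simp [MulAut.mul_apply]

theorem restrictHom_apply (φ : H →* MulAut E) (U : Subgroup E)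
    (hU : ∀ (h : H), ∀ e ∈ U, φ h e ∈ U) (h : H) (e : U) :
    ((restrictHom φ U hU h e : U) : E) = φ h e := rfl

/-- Common fixed points. -/
def fixSub (φ : H →* MulAut E) (M : Subgroup H) : Subgroup E where
  carrier := {e | ∀ m ∈ M, φ m e = e}
  one_mem' := fun m _ => map_one (φ m)
  mul_mem' := fun ha hb m hm => by rw [map_mul, ha m hm, hb m hm]
  inv_mem' := fun ha m hm => by rw [map_inv, ha m hm]

theorem z_mem_fixSub (X : XSpec E z) (φ : H →* MulAut E) (M : Subgroup H) :
    z ∈ fixSub φ M := fun _ _ => X.apply_eq _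

theorem fixSub_inv {φ : H →* MulAut E} {M : Subgroup H} {h : H}
    (hh : ∀ m ∈ M, h⁻¹ * m * h ∈ M) {e : E} (he : e ∈ fixSub φ M) : φ h e ∈ fixSub φ M := by
  intro m hm
  have := congrArg (φ h) (he _ (hh m hm))
  simpa [MulAut.mul_apply] using this

open Classical in
/-- Sign character of `{1, z}`. -/
noncomputable def zChar (X : XSpec E z) : zSub X →* ℂˣ :=
  MonoidHom.mk' (fun c => if (c : E) = 1 then 1 else -1) (by
    rintro ⟨a, rfl | rfl⟩ ⟨b, rfl | rfl⟩ <;> simp [X.ne_one, X.mul_self])

theorem lift_irreducible (X : XSpec E z) (ih : GoodBelow E) {V : Type} [AddCommGroup V]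
    [Module ℂ V] [FiniteDimensional ℂ V] (ρ : Representation ℂ E V) [ρ.IsIrreducible]
    (hz : ρ z = -1) (hE : ∃ e : E, e ∉ zSub X) (φ : H →* MulAut E)
    (hφ : Function.Injective φ) (T K : Subgroup H) (hT : IsPGroup 2 T) (hK : Odd (Nat.card K))
    (hTK : ∀ t ∈ T, ∀ k ∈ K, t * k * t⁻¹ ∈ K) (hfpf : FPF z φ K) (htop : T ⊔ K = ⊤)
    (hmin : ∀ L : Subgroup H, L ≤ K → (∀ t ∈ T, ∀ l ∈ L, t * l * t⁻¹ ∈ L) → FPF z φ L → L = K)
    (hirr : ∀ F : Subgroup E, (∀ (h : H), ∀ e ∈ F, φ h e ∈ F) → z ∈ F →
      F ≤ zSub X ∨ F = ⊤) :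
    Lift ρ (φ.comp T.subtype) := by
  classical
  have hKn : K.Normal := by
    rw [← Subgroup.normalizer_eq_top_iff, eq_top_iff, ← htop, sup_le_iff]
    refine ⟨fun t ht => Subgroup.mem_normalizer_iff.2 fun k => ⟨hTK t ht k, fun hk => ?_⟩,
      Subgroup.le_normalizer⟩
    have := hTK t⁻¹ (inv_mem ht) _ hk
    simpa [mul_assoc] using this
  obtain ⟨e0, he0⟩ := hE
  have hgen : ∀ h : H, φ h = 1 → h = 1 := fun h hh => hφ (by rw [hh, map_one])
  -- `K` is abelian of prime exponent
  have hKbot : K ≠ ⊥ := by
    rintro rfl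
    exact he0 (hfpf e0 fun k hk => by rw [Subgroup.mem_bot.1 hk, map_one]; rfl)
  have : Group.IsSolvable K := by exact H16.FT.oddOrder hK
  obtain ⟨n, hn⟩ := this.solvable
  obtain ⟨L', hL'0, hL'K, hL'n, hL'c⟩ : ∃ L' : Subgroup H, L' ≠ ⊥ ∧ L' ≤ K ∧ L'.Normal ∧
      ∀ a ∈ L', ∀ b ∈ L', a * b = b * a := by
    have hex : ∃ m, derivedSeries (↥K) m = ⊥ := ⟨n, hn⟩
    have hspec := Nat.find_spec hex
    have hpos : Nat.find hex ≠ 0 := by
      intro h0
      rw [h0, derivedSeries_zero] at hspec
      have : Subsingleton K := Subgroup.subsingleton_iff.1 (subsingleton_of_bot_eq_top hspec.symm)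
      exact hKbot (Subgroup.eq_bot_of_subsingleton K)
    obtain ⟨m, hm⟩ := Nat.exists_eq_succ_of_ne_zero hpos
    rw [hm, derivedSeries_succ, Subgroup.commutator_eq_bot_iff_le_centralizer] at hspec
    have hne : derivedSeries (↥K) m ≠ ⊥ := fun h =>
      Nat.find_min hex (by omega) h
    refine ⟨(derivedSeries (↥K) m).map K.subtype, ?_, Subgroup.map_subtype_le _,
      inferInstance, ?_⟩
    · intro h
      exact hne (Subgroup.map_injective K.subtype_injective (h.trans (Subgroup.map_bot _).symm))
    · rintro _ ⟨a, ha, rfl⟩ _ ⟨b, hb, rfl⟩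
      exact congrArg Subtype.val ((hspec hb) a ha)
  have hq : ∃ q, q.Prime ∧ q ∣ Nat.card L' :=
    Nat.exists_prime_and_dvd (fun h => hL'0 (Subgroup.card_eq_one.1 h))
  obtain ⟨q, hqp, hqd⟩ := hq
  have : Fact q.Prime := ⟨hqp⟩
  have hqodd : Odd q := hK.of_dvd_nat (hqd.trans (Subgroup.card_dvd_of_le hL'K))
  let L : Subgroup H :=
    { carrier := {l | l ∈ L' ∧ l ^ q = 1}
      one_mem' := ⟨one_mem _, one_pow _⟩
      mul_mem' := fun {a b} ha hb => ⟨mul_mem ha.1 hb.1, by
        rw [(show Commute a b from hL'c a ha.1 b hb.1).mul_pow, ha.2, hb.2, one_mul]⟩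
      inv_mem' := fun {a} ha => ⟨inv_mem ha.1, by rw [inv_pow, ha.2, inv_one]⟩ }
  have hLn : ∀ (h : H), ∀ l ∈ L, h * l * h⁻¹ ∈ L := by
    rintro h l ⟨hl, hlq⟩
    refine ⟨hL'n.conj_mem l hl h, ?_⟩
    rw [conj_pow, hlq, mul_one, mul_inv_cancel]
  have hLK : L = K := by
    refine hmin L (fun l hl => hL'K hl.1) (fun t _ l hl => hLn t l hl) fun e he => ?_
    rcases hirr (fixSub φ L) (fun h e he => fixSub_inv (fun m hm => by
        simpa using hLn h⁻¹ m hm) he) (z_mem_fixSub X φ L) with hF | hF
    · exact hF he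
    · exfalso
      obtain ⟨l, hl⟩ := exists_prime_orderOf_dvd_card' (G := L') q hqd
      have hlL : (l : H) ∈ L := ⟨l.2, by
        rw [← Subgroup.coe_pow, ← hl, pow_orderOf_eq_one]; rfl⟩
      have h1 : (l : H) = 1 := hgen _ (MulEquiv.ext fun e =>
        (hF.ge (Subgroup.mem_top e) : e ∈ fixSub φ L) _ hlL)
      rw [show l = 1 from Subtype.ext h1, orderOf_one] at hl
      exact hqp.one_lt.ne hl
  have hKc : ∀ a ∈ K, ∀ b ∈ K, a * b = b * a := by
    rw [← hLK]; exact fun a ha b hb => hL'c a ha.1 b hb.1
  have hKq : ∀ a ∈ K, a ^ q = 1 := by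
    rw [← hLK]; exact fun a ha => ha.2
  -- the centraliser of `K` in `T` is trivial
  have hS : ∀ t ∈ T, (∀ k ∈ K, t * k = k * t) → t = 1 := by
    let S : Subgroup H := T ⊓ Subgroup.centralizer (K : Set H)
    have hSn : S.Normal := by
      rw [← Subgroup.normalizer_eq_top_iff, eq_top_iff, ← htop, sup_le_iff]
      refine ⟨fun t ht => ?_, fun k hk => ?_⟩
      · refine Subgroup.mem_normalizer_iff.2 fun s => ?_
        have hc : ∀ (t : H), t ∈ T → ∀ s, s ∈ S → t * s * t⁻¹ ∈ S := by
          rintro t ht s ⟨hsT, hsC⟩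
          refine ⟨(mul_mem (mul_mem ht hsT) (inv_mem ht) : t * s * t⁻¹ ∈ T), ?_⟩
          intro k hk
          have h1 : t⁻¹ * k * t ∈ K := by simpa using hTK t⁻¹ (inv_mem ht) k hk
          have h2 := hsC _ h1
          have h3 := congrArg (fun y => t * y * t⁻¹) h2
          simpa [mul_assoc] using h3
        refine ⟨hc t ht s, fun hs => ?_⟩
        have := hc t⁻¹ (inv_mem ht) _ hs
        simpa [mul_assoc] using this
      · refine Subgroup.mem_normalizer_iff.2 fun s => ?_
        constructor
        · intro hs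
          rwa [← hs.2 k hk |>.symm, mul_inv_cancel_right]
        · intro hs
          have h1 := hs.2 k hk
          rw [inv_mul_cancel_right] at h1
          have h2 : k * s * k⁻¹ = s := by
            have := congrArg (fun y => k⁻¹ * y) h1
            simpa [mul_assoc] using this
          rwa [h2] at hs
    intro t ht htc
    have htS : t ∈ S := ⟨ht, fun k hk => (htc k hk).symm⟩
    let F1 : Subgroup E :=
      { carrier := {e | ∀ s ∈ S, e⁻¹ * φ s e ∈ zSub X}
        one_mem' := fun s _ => by simp
        mul_mem' := fun {a b} ha hb s hs => by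
          have h1 := mul_mem (ha s hs) (hb s hs)
          have hcc : ∀ c ∈ zSub X, b⁻¹ * c = c * b⁻¹ := by
            rintro c (rfl | rfl)
            · simp
            · exact (X.central _).symm
          rw [map_mul, mul_inv_rev, show b⁻¹ * a⁻¹ * (φ s a * φ s b) = b⁻¹ * (a⁻¹ * φ s a) * φ s b by
            simp [mul_assoc], hcc _ (ha s hs), mul_assoc]
          exact h1
        inv_mem' := fun {a} ha s hs => by
          have h1 := inv_mem (ha s hs)
          have hcc : ∀ c ∈ zSub X, a * c = c * a := by
            rintro c (rfl | rfl)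
            · simp
            · exact (X.central _).symm
          rw [map_inv, inv_inv]
          rw [mul_inv_rev, inv_inv] at h1
          have h2 : a * (φ s a)⁻¹ = a * ((φ s a)⁻¹ * a) * a⁻¹ := by simp [mul_assoc]
          rwa [h2, hcc _ h1, mul_inv_cancel_right] }
    have hF1z : z ∈ F1 := fun s _ => by simp [X.apply_eq]
    have hF1inv : ∀ (h : H), ∀ e ∈ F1, φ h e ∈ F1 := by
      intro h e he s hs
      have h1 := he (h⁻¹ * s * h) (by simpa using hSn.conj_mem s hs h⁻¹)
      have h2 : φ h (e⁻¹ * φ (h⁻¹ * s * h) e) = (φ h e)⁻¹ * φ s (φ h e) := by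
        simp [MulAut.mul_apply]
      rw [← h2]
      rcases h1 with h1 | h1
      · exact Or.inl (by rw [h1, map_one])
      · exact Or.inr (by rw [h1, X.apply_eq])
    have hF1top : F1 = ⊤ := by
      refine (hirr F1 hF1inv hF1z).resolve_left fun hle => ?_
      -- a fixed point of the 2-group `S` on `E / {1, z}`
      obtain ⟨g, hg⟩ := exists_quotAct X (⊤ : Subgroup E) φ (fun _ _ _ => Subgroup.mem_top _)
      let Q := ZQ X (⊤ : Subgroup E)
      letI : MulAction S Q :=
        { smul := fun s p => g s p
          one_smul := fun p => by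
            induction p using QuotientGroup.induction_on with
            | H e => show g _ _ = _; simp [hg]
          mul_smul := fun a b p => by
            induction p using QuotientGroup.induction_on with
            | H e => show g _ _ = g _ (g _ _); simp [hg, MulAut.mul_apply] }
      have hE2 : IsPGroup 2 E := fun e => by
        refine ⟨2, ?_⟩
        rw [show (2 : ℕ) ^ 2 = 2 + 2 from rfl, pow_add, pow_two]
        rcases X.sq e with h | h <;> rw [h]
        · exact one_mul 1
        · exact X.mul_self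
      have hQ : IsPGroup 2 Q := (hE2.to_subgroup ⊤).to_quotient _
      have : Nontrivial Q := by
        refine nontrivial_of_ne (QuotientGroup.mk ⟨e0, Subgroup.mem_top _⟩) 1 fun h => ?_
        exact he0 ((QuotientGroup.eq_one_iff _).1 h :)
      have hSp : IsPGroup 2 S := hT.to_le inf_le_left
      have hdvd : 2 ∣ Nat.card Q := by
        obtain ⟨m, hm0, hm⟩ := hQ.nontrivial_iff_card.1 this
        rw [hm]; exact dvd_pow_self 2 hm0.ne'
      obtain ⟨b, hb, hne⟩ := hSp.exists_fixed_point_of_prime_dvd_card_of_fixed_point Q hdvd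
        (a := (1 : Q)) (fun s => map_one (g s))
      obtain ⟨e, rfl⟩ := QuotientGroup.mk_surjective b
      apply hne
      refine ((QuotientGroup.eq_one_iff e).2 ?_).symm
      refine hle fun s hs => ?_
      exact (QuotientGroup.eq.1 ((hb ⟨s, hs⟩).symm.trans (hg s e)) :)
    let χ : (⊤ : Subgroup E) →* ℂˣ := MonoidHom.mk'
      (fun e => zChar X ⟨(e : E)⁻¹ * φ t e, (hF1top.ge (Subgroup.mem_top (e : E)) :) t htS⟩)
      (fun a b => by
        rw [← map_mul]
        congr 1
        apply Subtype.ext
        show ((a : E) * b)⁻¹ * φ t ((a : E) * b) = (a : E)⁻¹ * φ t a * ((b : E)⁻¹ * φ t b)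
        have hm : (a : E)⁻¹ * φ t a ∈ zSub X := (hF1top.ge (Subgroup.mem_top (a : E)) :) t htS
        have hcc : ∀ c ∈ zSub X, (b : E)⁻¹ * c = c * (b : E)⁻¹ := by
          rintro c (rfl | rfl)
          · simp
          · exact (X.central _).symm
        rw [map_mul, mul_inv_rev, show (b : E)⁻¹ * (a : E)⁻¹ * (φ t a * φ t b) =
          (b : E)⁻¹ * ((a : E)⁻¹ * φ t a) * φ t b by simp [mul_assoc], hcc _ hm, mul_assoc])
    apply hgen
    refine MulEquiv.ext fun e => ?_
    have h1 := char_trivial X ⊤ φ (fun _ _ _ => Subgroup.mem_top _) K hK (fun e _ => hfpf e) χ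
      (fun e he => by
        show zChar X _ = 1
        rw [← map_one (zChar X)]
        congr 1
        apply Subtype.ext
        show (e : E)⁻¹ * φ t e = 1
        rw [he, X.apply_eq, inv_mul_cancel])
      (fun k hk e => by
        show zChar X _ = zChar X _
        congr 1
        apply Subtype.ext
        show (φ k e)⁻¹ * φ t (φ k e) = (e : E)⁻¹ * φ t e
        rw [← MulAut.mul_apply, ← map_mul, htc k hk, map_mul, MulAut.mul_apply, ← map_inv,
          ← map_mul]
        rcases (hF1top.ge (Subgroup.mem_top (e : E)) :) t htS with h | h <;>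
          rw [h]
        · exact map_one _
        · exact X.apply_eq _) ⟨e, Subgroup.mem_top _⟩
    have h2 : zChar X ⟨e⁻¹ * φ t e, (hF1top.ge (Subgroup.mem_top e) :) t htS⟩ = 1 := h1
    have h3 : e⁻¹ * φ t e = 1 := by
      by_contra hne
      simp only [zChar, MonoidHom.mk'_apply, if_neg hne] at h2
      have := congrArg Units.val h2
      norm_num at this
    rw [MulAut.one_apply]
    exact (inv_mul_eq_one.1 h3).symm
  -- a maximal subgroup of `K` with fixed points
  obtain ⟨M, hMK, hMF, hMmax⟩ : ∃ M : Subgroup H, M ≤ K ∧ ¬ fixSub φ M ≤ zSub X ∧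
      ∀ M' : Subgroup H, M' ≤ K → ¬ fixSub φ M' ≤ zSub X → Nat.card M' ≤ Nat.card M := by
    obtain ⟨M, hM, hmax⟩ := Set.exists_max_image
      {M : Subgroup H | M ≤ K ∧ ¬ fixSub φ M ≤ zSub X} (fun M => Nat.card M) (Set.toFinite _)
      ⟨⊥, bot_le, fun h => he0 (h (fun m hm => by rw [Subgroup.mem_bot.1 hm, map_one]; rfl))⟩
    exact ⟨M, hM.1, hM.2, fun M' h1 h2 => hmax M' ⟨h1, h2⟩⟩
  have hfixK : ∀ M' : Subgroup H, M' ≤ K → ∀ k : K, ∀ e ∈ fixSub φ M', φ (k : H) e ∈ fixSub φ M' :=
    fun M' hM' k e he => fixSub_inv (fun m hm => by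
      rwa [mul_assoc, hKc m (hM' hm) k k.2, inv_mul_cancel_left]) he
  have hfull : ∀ M' : Subgroup H, M' ≤ K → Nat.card M' = Nat.card M →
      ¬ fixSub φ M' ≤ zSub X → ∀ x ∈ K, x ∉ M' → M' ⊔ Subgroup.zpowers x = K := by
    intro M' hM'K hcard hF x hx hxM
    refine le_antisymm (sup_le hM'K (Subgroup.zpowers_le.2 hx)) fun y hy => ?_
    by_contra hyM
    refine hF fun e he => ?_
    have hg : ∀ g : K, (g : H) ∉ M' → ∀ d ∈ fixSub φ M', φ (g : H) d = d → d = 1 ∨ d = z := by
      intro g hg d hd hgd
      by_contra hd'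
      have hlt : M' < M' ⊔ Subgroup.zpowers (g : H) :=
        lt_of_le_of_ne le_sup_left fun h =>
          hg (h.ge (Subgroup.mem_sup_right (Subgroup.mem_zpowers _)))
      have hle := hMmax _ (sup_le hM'K (Subgroup.zpowers_le.2 g.2)) fun hsub => hd' (hsub ?_)
      · have h2 := Subgroup.card_le_of_le hlt.le
        exact hlt.ne (Subgroup.eq_of_le_of_card_ge hlt.le (by omega))
      · intro m hm
        have hst : M' ⊔ Subgroup.zpowers (g : H) ≤
            ({ carrier := {m | φ m d = d}
               one_mem' := by simp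
               mul_mem' := fun {a b} (ha : φ a d = d) (hb : φ b d = d) => by
                 show φ (a * b) d = d
                 rw [map_mul, MulAut.mul_apply, hb, ha]
               inv_mem' := fun {a} (ha : φ a d = d) => by
                 show φ a⁻¹ d = d
                 conv_lhs => rw [← ha]
                 simp } : Subgroup H) :=
          sup_le (fun m hm => hd m hm) (Subgroup.zpowers_le.2 hgd)
        exact hst hm
    have hxy : ∀ j : ℕ, x * y ^ j ∉ M' := by
      intro j hj
      by_cases hjq : q ∣ j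
      · obtain ⟨i, rfl⟩ := hjq
        rw [pow_mul, hKq y hy, one_pow, mul_one] at hj
        exact hxM hj
      · apply hyM
        have hyj : y ^ j ∈ M' ⊔ Subgroup.zpowers x := by
          rw [← inv_mul_cancel_left x (y ^ j)]
          exact mul_mem (inv_mem (Subgroup.mem_sup_right (Subgroup.mem_zpowers x)))
            (Subgroup.mem_sup_left hj)
        obtain ⟨i, hi⟩ := exists_pow_eq_self_of_coprime
          (x := y) (n := j) ((Nat.Coprime.coprime_dvd_right (orderOf_dvd_of_pow_eq_one (hKq y hy))
            ((hqp.coprime_iff_not_dvd.2 hjq).symm)))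
        rw [← hi]
        exact pow_mem hyj i
    exact lines_trivial X (fixSub φ M') (φ.comp K.subtype) (hfixK M' hM'K) q hqodd
      ⟨x, hx⟩ ⟨y, hy⟩ (Subtype.ext (hKc x hx y hy)) (Subtype.ext (hKq x hx))
      (Subtype.ext (hKq y hy))
      (fun d hd h => hg ⟨y, hy⟩ (fun h' => hyM (Subgroup.mem_sup_left h')) d hd h)
      (fun j d hd h => hg ((⟨x, hx⟩ : K) * (⟨y, hy⟩ : K) ^ j) (hxy j) d hd h) e he
  let St : Subgroup T :=
    { carrier := {t | M.map (MulAut.conj (t : H)).toMonoidHom = M}
      one_mem' := by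
        show M.map _ = M
        ext m
        simp
      mul_mem' := fun {a b} (ha : M.map _ = M) (hb : M.map _ = M) => by
        show M.map (MulAut.conj ((a * b : T) : H)).toMonoidHom = M
        conv_rhs => rw [← ha, ← hb]
        rw [Subgroup.map_map]
        congr 1
        ext m
        simp [mul_assoc]
      inv_mem' := fun {a} (ha : M.map _ = M) => by
        show M.map (MulAut.conj ((a⁻¹ : T) : H)).toMonoidHom = M
        conv_lhs => rw [← ha]
        rw [Subgroup.map_map]
        ext m
        simp [mul_assoc] }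
  have hconjM : ∀ c : T, Nat.card (M.map (MulAut.conj (c : H)).toMonoidHom) = Nat.card M :=
    fun c => (Nat.card_congr (M.equivMapOfInjective _ (MulAut.conj (c : H)).injective).toEquiv).symm
  have hconjK : ∀ c : T, M.map (MulAut.conj (c : H)).toMonoidHom ≤ K := by
    rintro c _ ⟨m, hm, rfl⟩
    exact hTK c c.2 m (hMK hm)
  have hconjF : ∀ (c : T), ∀ f ∈ fixSub φ M,
      φ (c : H) f ∈ fixSub φ (M.map (MulAut.conj (c : H)).toMonoidHom) := by
    rintro c f hf _ ⟨m, hm, rfl⟩
    have := congrArg (φ (c : H)) (hf m hm)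
    simpa [MulAut.mul_apply] using this
  by_cases hSt : St = ⊤
  · -- one block: `K` is cyclic of prime order
    have hMn : ∀ (h : H), ∀ m ∈ M, h⁻¹ * m * h ∈ M := by
      have hN : Subgroup.normalizer (M : Set H) = ⊤ := by
        rw [eq_top_iff, ← htop, sup_le_iff]
        refine ⟨fun t ht => ?_, fun k hk => ?_⟩
        · refine Subgroup.mem_normalizer_iff.2 fun m => ?_
          have h1 : M.map (MulAut.conj t).toMonoidHom = M :=
            (hSt.ge (Subgroup.mem_top (⟨t, ht⟩ : T)) :)
          constructor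
          · intro hm; rw [← h1]; exact ⟨m, hm, rfl⟩
          · intro hm
            rw [← h1] at hm
            obtain ⟨m', hm', he⟩ := hm
            rwa [← (MulAut.conj t).injective he]
        · refine Subgroup.mem_normalizer_iff.2 fun m => ⟨fun hm => ?_, fun hm => ?_⟩
          · rwa [hKc k hk m (hMK hm), mul_inv_cancel_right]
          · have h1 := hKc k⁻¹ (inv_mem hk) _ (hMK hm)
            have h2 : m = k * m * k⁻¹ := by
              have := congrArg (fun y => y * k) h1
              simpa [mul_assoc] using this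
            rwa [h2]
      intro h m hm
      have := (Subgroup.mem_normalizer_iff.1 (hN.ge (Subgroup.mem_top h⁻¹)) m).1 hm
      simpa using this
    have hFtop : fixSub φ M = ⊤ :=
      (hirr _ (fun h e he => fixSub_inv (hMn h) he) (z_mem_fixSub X φ M)).resolve_left hMF
    have hMbot : M = ⊥ := by
      rw [Subgroup.eq_bot_iff_forall]
      exact fun m hm => hgen m (MulEquiv.ext fun e => (hFtop.ge (Subgroup.mem_top e) :) m hm)
    obtain ⟨x, hx, hx1⟩ := K.bot_or_exists_ne_one.resolve_left hKbot
    have hKx : Subgroup.zpowers x = K := by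
      have := hfull M hMK rfl hMF x hx (fun h => hx1 (by rwa [hMbot, Subgroup.mem_bot] at h))
      rwa [hMbot, bot_sup_eq] at this
    have hKcard : Nat.card K = q := by
      rw [← hKx, Nat.card_zpowers]
      exact orderOf_eq_prime (hKq x hx) hx1
    have hKcyc : IsCyclic K := isCyclic_of_prime_card hKcard
    have hAut : IsCyclic (MulAut K) := by
      have : IsCyclic (ZMod (Nat.card K))ˣ := by
        rw [hKcard]; exact ZMod.isCyclic_units_prime hqp
      exact isCyclic_of_surjective (IsCyclic.mulAutMulEquiv K).symm.toMonoidHom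
        (IsCyclic.mulAutMulEquiv K).symm.surjective
    have hTcyc : IsCyclic T := by
      refine isCyclic_of_injective ((MulAut.conjNormal (H := K)).comp T.subtype) ?_
      rw [injective_iff_map_eq_one]
      intro t ht
      refine Subtype.ext (hS t t.2 fun k hk => ?_)
      have h1 := congrArg Subtype.val (MulEquiv.congr_fun ht ⟨k, hk⟩)
      simp only [MonoidHom.coe_comp, Subgroup.coe_subtype, Function.comp_apply,
        MulAut.conjNormal_apply, MulAut.one_apply] at h1
      exact mul_inv_eq_iff_eq_mul.1 h1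
    exact lift_of_cyclic X ρ hz hTcyc _
  · -- several blocks: tensor induction
    have hblock : ∀ c : T, c ∉ St → ∀ e ∈ fixSub φ M, ∀ f ∈ fixSub φ M,
        e * φ (c : H) f = φ (c : H) f * e := by
      intro c hc e he f hf
      set M2 := M.map (MulAut.conj (c : H)).toMonoidHom with hM2
      have hnle : ¬ M2 ≤ M := fun h =>
        hc (Subgroup.eq_of_le_of_card_ge h (hconjM c).ge)
      obtain ⟨x', hx', hx'M⟩ := Set.not_subset.1 hnle
      have hsup : M ⊔ M2 = K := by
        refine le_antisymm (sup_le hMK (hconjK c)) ?_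
        rw [← hfull M hMK rfl hMF x' (hconjK c hx') hx'M]
        exact sup_le_sup_left (Subgroup.zpowers_le.2 hx') _
      have hinv2 := hfixK M2 (hconjK c)
      let χ : fixSub φ M2 →* ℂˣ := MonoidHom.mk' (fun y => sg e (y : E))
        (fun a b => sg_mul_right X e _ _)
      have hkinv : ∀ k : K, ∀ y : fixSub φ M2, sg e (φ (k : H) y) = sg e y := by
        have hsub : K.toSubmonoid ≤
            ({ carrier := {k | ∀ y ∈ fixSub φ M2, φ k y ∈ fixSub φ M2 ∧ sg e (φ k y) = sg e y}
               one_mem' := fun y hy => by simp [hy]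
               mul_mem' := fun {a b} ha hb y hy => by
                 rw [map_mul, MulAut.mul_apply]
                 exact ⟨(ha _ (hb y hy).1).1, (ha _ (hb y hy).1).2.trans (hb y hy).2⟩ } :
              Submonoid H) := by
          intro k (hk : k ∈ K)
          rw [← hsup] at hk
          obtain ⟨a, ha, b, hb, rfl⟩ : ∃ a ∈ M, ∃ b ∈ M2, k = a * b := by
            have hn : M ≤ Subgroup.normalizer (M2 : Set H) := by
              intro a ha
              refine Subgroup.mem_normalizer_iff.2 fun b => ⟨fun hb => ?_, fun hb => ?_⟩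
              · rwa [hKc a (hMK ha) b (hconjK c hb), mul_inv_cancel_right]
              · have h1 := hKc a⁻¹ (inv_mem (hMK ha)) _ (hconjK c hb)
                have h2 : b = a * b * a⁻¹ := by
                  have := congrArg (fun y => y * a) h1
                  simpa [mul_assoc] using this
                rwa [h2]
            have := Subgroup.coe_mul_of_left_le_normalizer_right M M2 hn
            have hk' : k ∈ ((M ⊔ M2 : Subgroup H) : Set H) := hk
            rw [this] at hk'
            obtain ⟨a, ha, b, hb, h⟩ := hk'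
            exact ⟨a, ha, b, hb, h.symm⟩
          intro y hy
          refine ⟨hinv2 ⟨a * b, mul_mem (hMK ha) (hconjK c hb)⟩ y hy, ?_⟩
          rw [map_mul, MulAut.mul_apply, hy b hb]
          conv_lhs => rw [← he a ha]
          exact sg_map _ _ _
        exact fun k y => (hsub k.2 _ y.2).2
      exact sg_eq_one.1 (char_trivial X (fixSub φ M2) (φ.comp K.subtype) hinv2 ⊤
        (by rwa [Subgroup.card_top])
        (fun d _ hd => hfpf d fun k hk => hd ⟨k, hk⟩ (Subgroup.mem_top _)) χ
        (fun y hy => by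
          show sg e (y : E) = 1
          rw [hy]; exact sg_z X _)
        (fun k _ y => hkinv k y) ⟨φ (c : H) f, hconjF c f hf⟩)
    -- an index two subgroup containing the stabiliser
    obtain ⟨n, hn⟩ := IsPGroup.iff_card.1 hT
    obtain ⟨a, ha⟩ := IsPGroup.iff_card.1 (hT.to_subgroup St)
    have hn1 : a < n := by
      have h1 := Subgroup.card_le_card_group St
      have h2 : Nat.card St ≠ Nat.card T := fun h => hSt (Subgroup.eq_top_of_card_eq _ h)
      rw [ha, hn] at h1 h2
      have := (Nat.pow_le_pow_iff_right (one_lt_two)).1 h1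
      exact lt_of_le_of_ne this fun h => h2 (by rw [h])
    obtain ⟨T1, hT1, hStT1⟩ := Sylow.exists_subgroup_card_pow_prime_le 2
      (n := a) (m := n - 1) (by rw [hn]; exact pow_dvd_pow 2 (Nat.sub_le _ _)) St ha (by omega)
    have hi : T1.index = 2 := by
      have h1 := T1.card_mul_index
      rw [hT1, hn, show n = n - 1 + 1 by omega, pow_succ, Nat.add_sub_cancel] at h1
      exact Nat.eq_of_mul_eq_mul_left (pow_pos two_pos _) h1
    obtain ⟨t, ht⟩ : ∃ t : T, t ∉ T1 := by
      by_contra h
      simp only [not_exists, not_not] at h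
      rw [Subgroup.index_eq_one.2 (Subgroup.eq_top_iff' _ |>.2 h)] at hi
      exact absurd hi (by norm_num)
    -- the two halves
    let part : Set T → Subgroup E := fun A =>
      Subgroup.closure {e | ∃ c ∈ A, ∃ f ∈ fixSub φ M, φ (c : H) f = e}
    set E1 := part (T1 : Set T) with hE1
    set E2 := part ((T1 : Set T)ᶜ) with hE2
    have hmap : ∀ (s : H) (A B : Set T), (∀ c ∈ A, ∀ f ∈ fixSub φ M,
        φ s (φ (c : H) f) ∈ part B) → ∀ e ∈ part A, φ s e ∈ part B := by
      intro s A B h e he
      induction he using Subgroup.closure_induction with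
      | mem x hx =>
        obtain ⟨c, hc, f, hf, rfl⟩ := hx
        exact h c hc f hf
      | one => rw [map_one]; exact one_mem _
      | mul x y _ _ hx hy => rw [map_mul]; exact mul_mem hx hy
      | inv x _ hx => rw [map_inv]; exact inv_mem hx
    have hpartT : ∀ (s : T) (A B : Set T), (∀ c ∈ A, s * c ∈ B) →
        ∀ e ∈ part A, φ (s : H) e ∈ part B := by
      intro s A B h
      refine hmap _ A B fun c hc f hf => Subgroup.subset_closure ⟨s * c, h c hc, f, hf, ?_⟩
      simp [MulAut.mul_apply]
    have hpartK : ∀ k ∈ K, ∀ (A : Set T), ∀ e ∈ part A, φ k e ∈ part A := by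
      intro k hk A
      refine hmap _ A A fun c hc f hf => Subgroup.subset_closure ⟨c, hc, φ ((c : H)⁻¹ * k * c) f,
        hfixK M hMK ⟨_, by simpa using hKn.conj_mem k hk (c : H)⁻¹⟩ f hf, ?_⟩
      simp [MulAut.mul_apply]
    have hcross : ∀ u ∈ E1, ∀ v ∈ E2, u * v = v * u := by
      have h1 : E1 ≤ Subgroup.centralizer (E2 : Set E) := by
        rw [hE1, Subgroup.closure_le]
        rintro _ ⟨a, ha, f, hf, rfl⟩
        rw [SetLike.mem_coe, hE2, Subgroup.centralizer_closure]
        rintro _ ⟨b, hb, g, hg, rfl⟩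
        have hc : a⁻¹ * b ∉ St := fun h => hb (by
          have := mul_mem ha (hStT1 h)
          rwa [mul_inv_cancel_left] at this)
        have h2 := congrArg (φ (a : H)) (hblock _ hc f hf g hg)
        simpa [MulAut.mul_apply] using h2.symm
      exact fun u hu v hv => (h1 hu v hv).symm
    have hT1n : T1.Normal := Subgroup.normal_of_index_eq_two hi
    have hsup : E1 ⊔ E2 = ⊤ := by
      have hS : E1 ⊔ E2 = part Set.univ := by
        refine le_antisymm (sup_le (Subgroup.closure_mono ?_) (Subgroup.closure_mono ?_)) ?_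
        · rintro e ⟨c, _, h⟩; exact ⟨c, trivial, h⟩
        · rintro e ⟨c, _, h⟩; exact ⟨c, trivial, h⟩
        · refine (Subgroup.closure_le _).2 ?_
          rintro e ⟨c, -, h⟩
          by_cases hc : c ∈ T1
          · exact Subgroup.mem_sup_left (Subgroup.subset_closure ⟨c, hc, h⟩)
          · exact Subgroup.mem_sup_right (Subgroup.subset_closure ⟨c, hc, h⟩)
      rw [hS]
      have hFsub : fixSub φ M ≤ part Set.univ := fun f hf =>
        Subgroup.subset_closure ⟨1, trivial, f, hf, by simp⟩
      refine (hirr _ (fun h => ?_) (hFsub (z_mem_fixSub X φ M))).resolve_left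
        fun hle => hMF (hFsub.trans hle)
      have hgoal : (⊤ : Subgroup H).toSubmonoid ≤
          ({ carrier := {h | ∀ e ∈ part Set.univ, φ h e ∈ part Set.univ}
             one_mem' := fun e he => by simpa using he
             mul_mem' := fun {a b} ha hb e he => by
               rw [map_mul, MulAut.mul_apply]; exact ha _ (hb e he) } : Submonoid H) := by
        rw [← htop]
        intro x hx
        have hn : T ≤ Subgroup.normalizer (K : Set H) :=
          le_top.trans (Subgroup.normalizer_eq_top_iff.2 hKn).ge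
        have hx' : x ∈ ((T ⊔ K : Subgroup H) : Set H) := hx
        rw [Subgroup.coe_mul_of_left_le_normalizer_right T K hn] at hx'
        obtain ⟨a, ha, b, hb, rfl⟩ := hx'
        intro e he
        rw [map_mul, MulAut.mul_apply]
        exact hpartT ⟨a, ha⟩ Set.univ Set.univ (fun _ _ => trivial) _ (hpartK b hb _ e he)
      exact hgoal (Subgroup.mem_top h)
    have hzE1 : z ∈ E1 := by
      rw [← X.apply_eq (φ ((1 : T) : H))]
      exact Subgroup.subset_closure ⟨1, one_mem _, z, z_mem_fixSub X φ M, rfl⟩
    have hzE2 : z ∈ E2 := by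
      rw [← X.apply_eq (φ (t : H))]
      exact Subgroup.subset_closure ⟨t, ht, z, z_mem_fixSub X φ M, rfl⟩
    have d : CentralDecomp z E1 E2 := by
      refine ⟨hcross, hsup, fun x h1 h2 => X.center x fun b => ?_, hzE1, hzE2⟩
      have hle : (⊤ : Subgroup E) ≤ Subgroup.centralizer ({x} : Set E) := by
        rw [← hsup, sup_le_iff]
        exact ⟨fun u hu => Subgroup.mem_centralizer_singleton_iff.2 (hcross u hu x h2),
          fun v hv => Subgroup.mem_centralizer_singleton_iff.2 (hcross x h1 v hv).symm⟩
      exact (Subgroup.mem_centralizer_singleton_iff.1 (hle (Subgroup.mem_top b))).symm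
    have hlt : Nat.card E1 < Nat.card E := by
      refine lt_of_le_of_ne (Subgroup.card_le_card_group E1) fun h => ?_
      have h1 : E1 = ⊤ := Subgroup.eq_top_of_card_eq _ h
      refine hMF fun f hf => ?_
      have hv : φ (t : H) f ∈ E2 := Subgroup.subset_closure ⟨t, ht, f, hf, rfl⟩
      rcases X.center (φ (t : H) f) (fun b => (hcross b (h1 ▸ Subgroup.mem_top b) _ hv).symm) with
        h2 | h2
      · exact Or.inl ((map_eq_one_iff _ (φ (t : H)).injective).1 h2)
      · exact Or.inr ((φ (t : H)).injective (h2.trans (X.apply_eq _).symm))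
    -- the representation of the first half
    let ρ1 : Representation ℂ E1 V := MonoidHom.comp ρ E1.subtype
    have hVne : Nontrivial V := H12.nontrivial_of_isIrreducible ρ
    obtain ⟨w, -, hw0, hwi⟩ := exists_irreducible_le ρ1 ⟨⊤, fun _ _ _ => Submodule.mem_top⟩
      top_ne_bot
    have hzw : w.toRepresentation ⟨z, hzE1⟩ = -1 := by
      refine LinearMap.ext fun v => Subtype.ext ?_
      show ρ z (v : V) = _
      rw [hz]
      rfl
    let S1 : Subgroup H :=
      (T1.map T.subtype) ⊔ K
    have hS1 : ∀ s : S1, ∀ e ∈ E1, φ (s : H) e ∈ E1 := by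
      have hgoal : S1.toSubmonoid ≤
          ({ carrier := {h | ∀ e ∈ E1, φ h e ∈ E1}
             one_mem' := fun e he => by simpa using he
             mul_mem' := fun {a b} ha hb e he => by
               rw [map_mul, MulAut.mul_apply]; exact ha _ (hb e he) } : Submonoid H) := by
        intro x hx
        have hn : T1.map T.subtype ≤ Subgroup.normalizer (K : Set H) :=
          le_top.trans (Subgroup.normalizer_eq_top_iff.2 hKn).ge
        have hx' : x ∈ ((T1.map T.subtype ⊔ K : Subgroup H) : Set H) := hx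
        rw [Subgroup.coe_mul_of_left_le_normalizer_right _ K hn] at hx'
        obtain ⟨_, ⟨a, ha, rfl⟩, b, hb, rfl⟩ := hx'
        intro e he
        rw [map_mul, MulAut.mul_apply]
        exact hpartT a _ _ (fun c hc => mul_mem ha hc) _ (hpartK b hb _ e he)
      exact fun s => hgoal s.2
    have hgood := ih E1 ⟨z, hzE1⟩ hlt (d.xspec_left X) w.toSubmodule w.toRepresentation hzw S1
      (restrictHom (φ.comp S1.subtype) E1 hS1) ((T1.map T.subtype).subgroupOf S1) (K.subgroupOf S1)
      ((hT.to_subgroup T1).map T.subtype |>.comap_of_injective S1.subtype S1.subtype_injective)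
      (by rwa [Nat.card_congr (Subgroup.subgroupOfEquivOfLe (H := K) (K := S1) le_sup_right).toEquiv])
      (fun s _ k hk => hKn.conj_mem (k : H) hk (s : H)) (fun u hu => by
        rcases hfpf (u : E) (fun k hk => congrArg Subtype.val
          (hu ⟨k, Subgroup.mem_sup_right hk⟩ hk)) with h | h
        · exact Or.inl (Subtype.ext h)
        · exact Or.inr (Subtype.ext h))
    let ι : T1 →* (T1.map T.subtype).subgroupOf S1 :=
      { toFun := fun s => ⟨⟨((s : T) : H), Subgroup.mem_sup_left ⟨s, s.2, rfl⟩⟩, ⟨s, s.2, rfl⟩⟩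
        map_one' := rfl
        map_mul' := fun _ _ => rfl }
    have hl := hgood.comp ι
    refine d.lift_index_two X hz (φ.comp T.subtype) T1 hi t ht
      (fun u hu => hpartT t _ _ (fun c hc => ?_) u hu)
      (fun v hv => hpartT t _ _ (fun c hc => ?_) v hv)
      (fun v hv => hpartT t⁻¹ _ _ (fun c hc => ?_) v hv) _ (fun s u => rfl)
      (fun s v hv => hpartT s _ _ (fun c hc => ?_) v hv) w.toRepresentation hzw hl
    · exact fun h => ht (by simpa using mul_mem h (inv_mem hc))
    · exact (Subgroup.mul_mem_iff_of_index_two hi).2 (iff_of_false ht hc)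
    · exact (Subgroup.mul_mem_iff_of_index_two hi).2 (iff_of_false (by simpa using ht) hc)
    · exact fun h => hc (by simpa using mul_mem (inv_mem s.2) h)

end H61.Dade
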