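import Cfsg.Agent.H61.Dade.Irred
import Cfsg.Agent.H15.Extension
import Mathlib.GroupTheory.SchurZassenhaus
import Mathlib.GroupTheory.SemidirectProduct
import Cfsg.Prelude.Def_Transfer

/-!
# Dade's extension theorem for extraspecial 2-groups
-/

set_option autoImplicit false
set_option linter.unusedSectionVars false

open Cfsg Module
open scoped commutatorElement

namespace H61.Dade

universe u

variable {E : Type u} [Group E] [Finite E] {z : E} {H : Type u} [Group H] [Finite H]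

theorem lift_split (X : XSpec E z) (ih : GoodBelow E) {V : Type} [AddCommGroup V]
    [Module ℂ V] [FiniteDimensional ℂ V] (ρ : Representation ℂ E V) [ρ.IsIrreducible]
    (hz : ρ z = -1) (φ : H →* MulAut E) (T K : Subgroup H) (hT : IsPGroup 2 T)
    (hK : Odd (Nat.card K)) (hTK : ∀ t ∈ T, ∀ k ∈ K, t * k * t⁻¹ ∈ K) (hfpf : FPF z φ K)
    (U : Subgroup E) (hU : ∀ (h : H), ∀ e ∈ U, φ h e ∈ U) (hzU : z ∈ U)
    (hUlarge : ¬ U ≤ zSub X) (hUtop : U ≠ ⊤)
    (hcen : ∀ a ∈ U, (∀ b ∈ U, a * b = b * a) → a = 1 ∨ a = z) :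
    Lift ρ (φ.comp T.subtype) := by
  classical
  set C := Subgroup.centralizer (U : Set E) with hC
  have hna : ∃ a ∈ U, ∃ b ∈ U, a * b ≠ b * a := by
    by_contra h
    refine hUlarge fun a ha => hcen a ha fun b hb => ?_
    by_contra hne
    exact h ⟨a, ha, b, hb, hne⟩
  have hsup := sup_centralizer_eq_top X U hna hcen
  have hzC : z ∈ C := fun u _ => (X.central u).symm
  have d : CentralDecomp z U C :=
    ⟨fun u hu c hc => hc u hu, hsup,
      fun e h1 h2 => hcen e h1 fun b hb => (h2 b hb).symm, hzU, hzC⟩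
  have hCinv : ∀ (h : H), ∀ c ∈ C, φ h c ∈ C := by
    intro h c hc u hu
    have := congrArg (φ h) (hc _ (hU h⁻¹ u hu))
    simpa [map_inv] using this
  have hltU : Nat.card U < Nat.card E :=
    lt_of_le_of_ne (Subgroup.card_le_card_group U) fun h => hUtop (Subgroup.eq_top_of_card_eq _ h)
  have hltC : Nat.card C < Nat.card E := by
    refine lt_of_le_of_ne (Subgroup.card_le_card_group C) fun h => hUlarge fun a ha => ?_
    refine hcen a ha fun b hb => ?_
    exact (((Subgroup.eq_top_of_card_eq _ h).ge (Subgroup.mem_top b) : b ∈ C) a ha)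
  have hsub : ∀ (W : Subgroup E) (_hz : z ∈ W) (hW : ∀ (h : H), ∀ e ∈ W, φ h e ∈ W),
      FPF (⟨z, _hz⟩ : W) (restrictHom φ W hW) K := by
    intro W hzW hW e he
    rcases hfpf (e : E) (fun k hk => congrArg Subtype.val (he k hk)) with h | h
    · exact Or.inl (Subtype.ext h)
    · exact Or.inr (Subtype.ext h)
  have hirr : ∀ (W : Subgroup E) (hzW : z ∈ W), ∃ w : Subrepresentation (MonoidHom.comp ρ W.subtype
      : Representation ℂ W V),
      w.toRepresentation ⟨z, hzW⟩ = -1 ∧ w.toRepresentation.IsIrreducible := by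
    intro W hzW
    have hVne : Nontrivial V := H12.nontrivial_of_isIrreducible ρ
    obtain ⟨w, -, -, hwi⟩ := exists_irreducible_le
      (MonoidHom.comp ρ W.subtype : Representation ℂ W V)
      ⟨⊤, fun _ _ _ => Submodule.mem_top⟩ top_ne_bot
    refine ⟨w, LinearMap.ext fun v => Subtype.ext ?_, hwi⟩
    show ρ z (v : V) = _
    rw [hz]
    rfl
  obtain ⟨wU, hwU, _⟩ := hirr U hzU
  obtain ⟨wC, hwC, _⟩ := hirr C hzC
  have lU := ih U ⟨z, hzU⟩ hltU (d.xspec_left X) wU.toSubmodule wU.toRepresentation hwU H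
    (restrictHom φ U hU) T K hT hK hTK (hsub U hzU hU)
  have lC := ih C ⟨z, hzC⟩ hltC (d.symm.xspec_left X) wC.toSubmodule wC.toRepresentation hwC H
    (restrictHom φ C hCinv) T K hT hK hTK (hsub C hzC hCinv)
  exact d.lift X hz (φ.comp T.subtype) _ _ (fun _ _ => rfl) (fun _ _ => rfl)
    wU.toRepresentation hwU wC.toRepresentation hwC lU lC

theorem lift_abelian (X : XSpec E z) (ih : GoodBelow E) {V : Type} [AddCommGroup V]
    [Module ℂ V] [FiniteDimensional ℂ V] (ρ : Representation ℂ E V) [ρ.IsIrreducible]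
    (hz : ρ z = -1) (φ : H →* MulAut E) (T K : Subgroup H) (hT : IsPGroup 2 T)
    (hK : Odd (Nat.card K)) [K.Normal] (hTK : ∀ t ∈ T, ∀ k ∈ K, t * k * t⁻¹ ∈ K)
    (hfpf : FPF z φ K) (U : Subgroup E) (hU : ∀ (h : H), ∀ e ∈ U, φ h e ∈ U) (hzU : z ∈ U)
    (hUlarge : ¬ U ≤ zSub X) (hab : ∀ a ∈ U, ∀ b ∈ U, a * b = b * a) :
    Lift ρ (φ.comp T.subtype) := by
  classical
  let : Fintype K := Fintype.ofFinite K
  letI : CommGroup U :=
    { (inferInstance : Group U) with mul_comm := fun a b => Subtype.ext (hab a a.2 b b.2) }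
  let act : H → U →* U := fun h =>
    MonoidHom.mk' (fun u => ⟨φ h u, hU h u u.2⟩) (fun a b => Subtype.ext (map_mul (φ h) _ _))
  have hact : ∀ (a b : H) (u : U), act (a * b) u = act a (act b u) := fun a b u =>
    Subtype.ext (by simp [act, MulAut.mul_apply])
  let N : U →* U :=
    { toFun := fun u => ∏ k : K, act (k : H) u
      map_one' := by simp
      map_mul' := fun a b => by simp [Finset.prod_mul_distrib] }
  have hNapp : ∀ u, N u = ∏ k : K, act (k : H) u := fun _ => rfl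
  have hNfix : ∀ u, ∀ k ∈ K, act k (N u) = N u := by
    intro u k hk
    rw [hNapp, map_prod]
    exact Fintype.prod_equiv (Equiv.mulLeft (⟨k, hk⟩ : K)) _ _ fun l => (hact k l u).symm
  have hNz : ∀ u : U, (N u : E) = 1 ∨ (N u : E) = z := fun u =>
    hfpf _ fun k hk => congrArg Subtype.val (hNfix u k hk)
  have hNzz : N ⟨z, hzU⟩ = ⟨z, hzU⟩ := by
    have hk : ∀ k : K, act (k : H) ⟨z, hzU⟩ = ⟨z, hzU⟩ := fun k => Subtype.ext (X.apply_eq _)
    rw [hNapp, Finset.prod_congr rfl (fun k _ => hk k), Finset.prod_const, Finset.card_univ,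
      ← Nat.card_eq_fintype_card]
    obtain ⟨j, hj⟩ := hK
    rw [hj, pow_succ, pow_mul, show (⟨z, hzU⟩ : U) ^ 2 = 1 from
      Subtype.ext (by simp [pow_two, X.mul_self]), one_pow, one_mul]
  let A : Subgroup E := N.ker.map U.subtype
  have hAmem : ∀ a, a ∈ A ↔ ∃ h : a ∈ U, N ⟨a, h⟩ = 1 := by
    intro a
    constructor
    · rintro ⟨u, hu, rfl⟩; exact ⟨u.2, hu⟩
    · rintro ⟨h, hu⟩; exact ⟨⟨a, h⟩, hu, rfl⟩
  have hzA : z ∉ A := fun h => by
    obtain ⟨_, h1⟩ := (hAmem z).1 h
    rw [hNzz] at h1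
    exact X.ne_one (congrArg Subtype.val h1)
  refine lift_of_isotropic X ih ρ hz φ T K hT hK hTK hfpf A ?_ hzA ?_ ?_ ?_
  · intro hA
    obtain ⟨u, hu, hu'⟩ := Set.not_subset.1 hUlarge
    rcases hNz ⟨u, hu⟩ with h | h
    · have : u ∈ A := (hAmem u).2 ⟨hu, Subtype.ext h⟩
      rw [hA, Subgroup.mem_bot] at this
      exact hu' (Or.inl this)
    · have : u * z ∈ A := (hAmem _).2 ⟨mul_mem hu hzU, by
        rw [show (⟨u * z, mul_mem hu hzU⟩ : U) = ⟨u, hu⟩ * ⟨z, hzU⟩ from rfl, map_mul, hNzz]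
        exact Subtype.ext (by rw [Subgroup.coe_mul, h]; exact X.mul_self)⟩
      rw [hA, Subgroup.mem_bot] at this
      refine hu' (Or.inr ?_)
      rw [eq_inv_of_mul_eq_one_left this, inv_eq_of_mul_eq_one_left X.mul_self]
  · rintro _ ⟨a, _, rfl⟩ _ ⟨b, _, rfl⟩
    exact hab a a.2 b b.2
  · intro a ha
    refine (X.sq a).resolve_right fun h => hzA ?_
    rw [← h]
    exact mul_mem ha ha
  · rintro h _ ⟨a, ha, rfl⟩
    refine (hAmem _).2 ⟨hU h a a.2, ?_⟩
    have h1 : N (act h a) = act h (N a) := by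
      rw [hNapp, hNapp, map_prod]
      refine Fintype.prod_equiv (MulAut.conjNormal h⁻¹).toEquiv _ _ fun k => ?_
      show act (k : H) (act h a) = act h (act ((MulAut.conjNormal h⁻¹ k : K) : H) a)
      rw [← hact, ← hact, MulAut.conjNormal_apply]
      simp [mul_assoc]
    show N (act h a) = 1
    rw [h1, show N a = 1 from ha, map_one]

theorem good_step (X : XSpec E z) (ih : GoodBelow E) : Good E z := by
  classical
  intro V _ _ _ ρ _ hz H _ _ φ T K hT hK hTK hfpf
  by_cases htriv : ∀ e : E, e = 1 ∨ e = z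
  · refine ⟨1, fun t e => ?_⟩
    have he : φ (t : H) e = e := by
      rcases htriv e with rfl | rfl
      · exact map_one _
      · exact X.apply_eq _
    simp [he]
  simp only [not_forall] at htriv
  obtain ⟨e0, he0⟩ := htriv
  -- a minimal odd subgroup without fixed points
  obtain ⟨K0, hK0, hK0min⟩ := Set.exists_min_image
    {L : Subgroup H | L ≤ K ∧ (∀ t ∈ T, ∀ l ∈ L, t * l * t⁻¹ ∈ L) ∧ FPF z φ L}
    (fun L => Nat.card L) (Set.toFinite _) ⟨K, le_rfl, hTK, hfpf⟩
  obtain ⟨hK0K, hTK0, hfpf0⟩ := hK0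
  -- pass to the image
  set H1 : Subgroup (MulAut E) := (T ⊔ K0).map φ with hH1
  have hTle : T.map φ ≤ H1 := Subgroup.map_mono le_sup_left
  have hKle : K0.map φ ≤ H1 := Subgroup.map_mono le_sup_right
  set T1 := (T.map φ).subgroupOf H1 with hT1def
  set K1 := (K0.map φ).subgroupOf H1 with hK1def
  suffices hl : Lift ρ (H1.subtype.comp T1.subtype) by
    let ι : T →* T1 :=
      { toFun := fun t => ⟨⟨φ t, hTle ⟨t, t.2, rfl⟩⟩, ⟨t, t.2, rfl⟩⟩
        map_one' := Subtype.ext (Subtype.ext (map_one φ))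
        map_mul' := fun a b => Subtype.ext (Subtype.ext (map_mul φ _ _)) }
    exact hl.comp ι
  have hT1 : IsPGroup 2 T1 := (hT.map φ).comap_of_injective H1.subtype H1.subtype_injective
  have hK1 : Odd (Nat.card K1) := by
    rw [hK1def, Nat.card_congr (Subgroup.subgroupOfEquivOfLe hKle).toEquiv]
    exact (hK.of_dvd_nat (Subgroup.card_dvd_of_le hK0K)).of_dvd_nat (Subgroup.card_map_dvd K0 φ)
  have hTK1 : ∀ t ∈ T1, ∀ k ∈ K1, t * k * t⁻¹ ∈ K1 := by
    rintro t ⟨a, ha, hat⟩ k ⟨b, hb, hbk⟩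
    refine ⟨a * b * a⁻¹, hTK0 a ha b hb, ?_⟩
    simp only [map_mul, map_inv, hat, hbk]
    try rfl
  have hfpf1 : FPF z H1.subtype K1 := fun e he => hfpf0 e fun k hk =>
    he ⟨φ k, hKle ⟨k, hk, rfl⟩⟩ ⟨k, hk, rfl⟩
  have htop1 : T1 ⊔ K1 = ⊤ := by
    apply Subgroup.map_injective H1.subtype_injective
    rw [Subgroup.map_sup, hT1def, hK1def, Subgroup.map_subgroupOf_eq_of_le hTle,
      Subgroup.map_subgroupOf_eq_of_le hKle, ← Subgroup.map_sup, ← MonoidHom.range_eq_map,
      Subgroup.range_subtype, hH1]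
  have hK1n : K1.Normal := by
    rw [← Subgroup.normalizer_eq_top_iff, eq_top_iff, ← htop1, sup_le_iff]
    refine ⟨fun t ht => Subgroup.mem_normalizer_iff.2 fun k => ⟨hTK1 t ht k, fun hk => ?_⟩,
      Subgroup.le_normalizer⟩
    have := hTK1 t⁻¹ (inv_mem ht) _ hk
    simpa [mul_assoc] using this
  -- a minimal invariant subgroup above `{1, z}`
  obtain ⟨U, hU, hUmin⟩ := Set.exists_min_image
    {F : Subgroup E | (∀ (h : H1), ∀ e ∈ F, H1.subtype h e ∈ F) ∧ z ∈ F ∧ ¬ F ≤ zSub X}
    (fun F => Nat.card F) (Set.toFinite _)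
    ⟨⊤, fun _ _ _ => Subgroup.mem_top _, Subgroup.mem_top _, fun h => he0 (h (Subgroup.mem_top e0))⟩
  obtain ⟨hUinv, hzU, hUlarge⟩ := hU
  by_cases hUtop : U = ⊤
  · refine lift_irreducible X ih ρ hz ⟨e0, he0⟩ H1.subtype H1.subtype_injective T1 K1 hT1 hK1 hTK1
      hfpf1 htop1 (fun L hLK hLn hLf => ?_) fun F hFinv hzF => ?_
    · let L0 : Subgroup H := K0 ⊓ (L.map H1.subtype).comap φ
      have hL0 : L0 ∈ {L : Subgroup H | L ≤ K ∧ (∀ t ∈ T, ∀ l ∈ L, t * l * t⁻¹ ∈ L) ∧
          FPF z φ L} := by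
        refine ⟨le_trans inf_le_left hK0K, ?_, ?_⟩
        · rintro t ht l ⟨hl, ⟨m, hm, hml⟩⟩
          refine ⟨hTK0 t ht l hl,
            ⟨⟨φ t, hTle ⟨t, ht, rfl⟩⟩ * m * ⟨φ t, hTle ⟨t, ht, rfl⟩⟩⁻¹,
              hLn _ ⟨t, ht, rfl⟩ m hm, ?_⟩⟩
          show φ t * (m : MulAut E) * (φ t)⁻¹ = φ (t * l * t⁻¹)
          rw [show (m : MulAut E) = φ l from hml, map_mul, map_mul, map_inv]
        · intro e he
          refine hLf e fun m hm => ?_
          obtain ⟨k, hk, hkm⟩ := hLK hm
          have := he k ⟨hk, ⟨m, hm, hkm.symm⟩⟩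
          rwa [hkm] at this
      have heq : L0 = K0 := Subgroup.eq_of_le_of_card_ge inf_le_left (hK0min L0 hL0)
      refine le_antisymm hLK fun m hm => ?_
      obtain ⟨k, hk, hkm⟩ := hm
      obtain ⟨m', hm', hmk⟩ := (heq.ge hk).2
      rwa [← H1.subtype_injective (hmk.trans hkm)]
    · by_cases hF : F ≤ zSub X
      · exact Or.inl hF
      · refine Or.inr (Subgroup.eq_top_of_card_eq _ (le_antisymm (Subgroup.card_le_card_group F) ?_))
        have := hUmin F ⟨hFinv, hzF, hF⟩
        rwa [hUtop, Subgroup.card_top] at this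
  · -- the centre of `U`
    let Z : Subgroup E := U ⊓ Subgroup.centralizer (U : Set E)
    have hzZ : z ∈ Z := ⟨hzU, fun u _ => (X.central u).symm⟩
    have hZinv : ∀ (h : H1), ∀ e ∈ Z, H1.subtype h e ∈ Z := by
      rintro h e ⟨he1, he2⟩
      refine ⟨hUinv h e he1, fun u hu => ?_⟩
      have := congrArg (H1.subtype h) (he2 _ (hUinv h⁻¹ u hu))
      simpa [map_inv] using this
    by_cases hZ : Z ≤ zSub X
    · exact lift_split X ih ρ hz H1.subtype T1 K1 hT1 hK1 hTK1 hfpf1 U hUinv hzU hUlarge hUtop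
        fun a ha hc => hZ ⟨ha, fun b hb => (hc b hb).symm⟩
    · have hZU : Z = U :=
        Subgroup.eq_of_le_of_card_ge inf_le_left (hUmin Z ⟨hZinv, hzZ, hZ⟩)
      exact lift_abelian X ih ρ hz H1.subtype T1 K1 hT1 hK1 hTK1 hfpf1 U hUinv hzU hUlarge
        fun a ha b hb => ((hZU.ge hb).2 a ha)

theorem good_all : ∀ (n : ℕ) (E : Type u) [Group E] [Finite E] (z : E),
    Nat.card E ≤ n → XSpec E z → Good E z := by
  intro n
  induction n with
  | zero => intro E _ _ z hn _; exact absurd hn (Nat.not_le.2 Nat.card_pos)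
  | succ n ih =>
    intro E _ _ z hn X
    exact good_step X fun Q _ _ zq hlt Xq => ih Q zq (by omega) Xq

/-- Lifts exist for groups of odd order. -/
theorem lift_of_odd (X : XSpec E z) {V : Type} [AddCommGroup V] [Module ℂ V]
    [FiniteDimensional ℂ V] (ρ : Representation ℂ E V) [ρ.IsIrreducible] (hz : ρ z = -1)
    (hodd : Odd (Nat.card H)) (φ : H →* MulAut E) : Lift ρ φ := by
  classical
  have hd0 : 0 < finrank ℂ V := H12.finrank_pos_of_isIrreducible ρ
  set d := finrank ℂ V with hd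
  have hcop : Nat.Coprime d (Nat.card H) := by
    have hE2 : IsPGroup 2 E := fun e => by
      refine ⟨2, ?_⟩
      rw [show (2 : ℕ) ^ 2 = 2 + 2 from rfl, pow_add, pow_two]
      rcases X.sq e with h | h <;> rw [h]
      · exact one_mul 1
      · exact X.mul_self
    obtain ⟨m, hm⟩ := IsPGroup.iff_card.1 hE2
    refine Nat.Coprime.coprime_dvd_left ?_ ((Nat.coprime_pow_left_iff
      (show 0 < m + 1 by omega) 2 _).2 (Nat.coprime_two_left.2 hodd))
    exact Dvd.intro_left (2 * finrank ℂ V) (card_eq X ρ hz).symm |>.trans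
      (hm ▸ pow_dvd_pow 2 (Nat.le_succ m))
  let D : (Module.End ℂ V)ˣ →* ℂ :=
    (LinearMap.det : Module.End ℂ V →* ℂ).comp (Units.coeHom (Module.End ℂ V))
  let Γ : Subgroup (H × (Module.End ℂ V)ˣ) :=
    { carrier := {x | (∀ e, (x.2 : Module.End ℂ V) * ρ e = ρ (φ x.1 e) * (x.2 : Module.End ℂ V)) ∧
        D x.2 = 1}
      one_mem' := ⟨fun e => by simp, map_one D⟩
      mul_mem' := by
        rintro ⟨a, A⟩ ⟨b, B⟩ ⟨hA, hA1⟩ ⟨hB, hB1⟩
        refine ⟨fun e => ?_, by simp [hA1, hB1]⟩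
        simp only [Prod.mk_mul_mk, Units.val_mul, map_mul, MulAut.mul_apply]
        rw [mul_assoc, hB e, ← mul_assoc, hA, mul_assoc]
      inv_mem' := by
        rintro ⟨a, A⟩ ⟨hA, hA1⟩
        refine ⟨fun e => ?_, ?_⟩
        · simp only [Prod.inv_mk, map_inv]
          rw [Units.inv_mul_eq_iff_eq_mul, ← mul_assoc, hA, MulAut.apply_inv_self, mul_assoc,
            Units.mul_inv, mul_one]
        · have h3 : D A * D A⁻¹ = 1 := by rw [← map_mul, mul_inv_cancel, map_one]
          rwa [hA1, one_mul] at h3 }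
  let π : Γ →* H := (MonoidHom.fst H (Module.End ℂ V)ˣ).comp Γ.subtype
  have hsurj : Function.Surjective π := by
    intro h
    obtain ⟨M, hM⟩ := exists_intertwiner X ρ hz (φ h)
    have hM0 : D M ≠ 0 := (IsUnit.map (LinearMap.det : Module.End ℂ V →* ℂ) M.isUnit).ne_zero
    obtain ⟨c, hc⟩ := IsAlgClosed.exists_pow_nat_eq (D M)⁻¹ hd0
    have hc0 : c ≠ 0 := by
      rintro rfl
      rw [zero_pow hd0.ne'] at hc
      exact inv_ne_zero hM0 hc.symm
    refine ⟨⟨(h, scal V (Units.mk0 c hc0) * M), fun e => ?_, ?_⟩, rfl⟩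
    · simp only [Units.val_mul, scal_val, smul_mul_assoc, one_mul, hM e, mul_smul_comm]
    · show D (scal V (Units.mk0 c hc0) * M) = 1
      rw [map_mul]
      show LinearMap.det ((scal V (Units.mk0 c hc0) : (Module.End ℂ V)ˣ) : Module.End ℂ V) * _ = 1
      rw [scal_val, LinearMap.det_smul, map_one, mul_one, Units.val_mk0, hc, inv_mul_cancel₀ hM0]
  have hker : ∀ x : π.ker, ∃ c : rootsOfUnity d ℂ, x.1.1.2 = scal V c := by
    rintro ⟨⟨⟨a, A⟩, hA, hA1⟩, hx⟩
    have ha : a = 1 := hx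
    subst ha
    obtain ⟨c, rfl⟩ := scal_of_commute ρ A (fun e => by simpa using hA e)
    refine ⟨⟨c, ?_⟩, rfl⟩
    rw [mem_rootsOfUnity]
    apply Units.ext
    have h1 : LinearMap.det ((scal V c : (Module.End ℂ V)ˣ) : Module.End ℂ V) = 1 := hA1
    rw [scal_val, LinearMap.det_smul, map_one, mul_one] at h1
    simpa using h1
  choose c hc using hker
  have hinj : Function.Injective c := by
    intro x y h
    apply Subtype.ext
    apply Subtype.ext
    refine Prod.ext ((MonoidHom.mem_ker.1 x.2).trans (MonoidHom.mem_ker.1 y.2).symm) ?_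
    rw [hc x, hc y, h]
  have : NeZero d := ⟨hd0.ne'⟩
  have : Finite π.ker := Finite.of_injective c hinj
  have : Finite Γ := π.finite_iff_finite_ker_range.2 ⟨inferInstance, inferInstance⟩
  have hscal : Function.Injective (scal V) := by
    have : Nontrivial V := H12.nontrivial_of_isIrreducible ρ
    intro a b h
    have h' := congrArg (fun M : (Module.End ℂ V)ˣ => (M : Module.End ℂ V)) h
    simp only [scal_val] at h'
    exact Units.ext (smul_left_injective ℂ one_ne_zero h')
  let cHom : π.ker →* rootsOfUnity d ℂ := MonoidHom.mk' c fun x y => by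
    apply Subtype.ext
    apply hscal
    rw [Subgroup.coe_mul, map_mul, ← hc, ← hc, ← hc]
    rfl
  have hdvd : Nat.card π.ker ∣ d := by
    have h1 := Subgroup.card_dvd_of_injective cHom hinj
    rwa [Complex.card_rootsOfUnity] at h1
  have hidx : π.ker.index = Nat.card H := by
    rw [Subgroup.index_ker, MonoidHom.range_eq_top.2 hsurj, Subgroup.card_top]
  obtain ⟨L, hL⟩ := Subgroup.exists_right_complement'_of_coprime (N := π.ker)
    (by rw [hidx]; exact hcop.coprime_dvd_left hdvd)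
  let f : L →* H := π.comp L.subtype
  have hf : Function.Bijective f := by
    refine (Nat.bijective_iff_injective_and_card f).2 ⟨?_, ?_⟩
    · rw [injective_iff_map_eq_one]
      intro x hx
      exact Subtype.ext (Subgroup.mem_bot.1 (hL.disjoint.le_bot ⟨hx, x.2⟩))
    · have h1 := hL.card_mul
      have h2 := π.ker.card_mul_index
      rw [hidx, ← h1] at h2
      exact (Nat.eq_of_mul_eq_mul_left Nat.card_pos h2).symm
  let e := MulEquiv.ofBijective f hf
  refine ⟨(MonoidHom.snd H (Module.End ℂ V)ˣ).comp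
    (Γ.subtype.comp (L.subtype.comp e.symm.toMonoidHom)), fun h x => ?_⟩
  have h1 : ((e.symm h : L) : Γ).1.1 = h := e.apply_symm_apply h
  have h2 := ((e.symm h : L) : Γ).2.1 x
  rw [h1] at h2
  exact h2

theorem xspec_of_extraspecial (hE : Cfsg.IsExtraspecial 2 E) :
    ∃ z : E, XSpec E z ∧ z ∈ Subgroup.center E := by
  obtain ⟨⟨_, _, hcomm⟩, hcard⟩ := hE
  obtain ⟨x, y, hxy, hxyu⟩ := Nat.card_eq_two_iff.1 hcard
  obtain ⟨z, hz, hz1⟩ : ∃ z, z ∈ Subgroup.center E ∧ z ≠ 1 := by
    by_cases hx : x = 1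
    · exact ⟨y, y.2, fun h => hxy (hx.trans (Subtype.ext h.symm))⟩
    · exact ⟨x, x.2, fun h => hx (Subtype.ext h)⟩
  have hall : ∀ w ∈ Subgroup.center E, w = 1 ∨ w = z := by
    intro w hw
    have hmem : ∀ a : Subgroup.center E, a = x ∨ a = y := fun a => by
      have := (hxyu.ge (Set.mem_univ a) : a ∈ ({x, y} : Set _))
      simpa using this
    rcases hmem ⟨w, hw⟩ with h1 | h1 <;> rcases hmem ⟨z, hz⟩ with h2 | h2 <;>
      rcases hmem 1 with h3 | h3
    all_goals first
      | exact Or.inl (congrArg Subtype.val (h1.trans h3.symm))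
      | exact Or.inr (congrArg Subtype.val (h1.trans h2.symm))
      | exact absurd (congrArg Subtype.val (h2.trans h3.symm)) hz1
  have hz2 : z * z = 1 := by
    rcases hall (z * z) (mul_mem hz hz) with h | h
    · exact h
    · exact absurd (mul_eq_left.1 h) hz1
  have hcm : ∀ a b : E, a * b = b * a ∨ a * b = z * (b * a) := by
    intro a b
    have h1 : ⁅a, b⁆ ∈ Subgroup.center E := by
      rw [← hcomm, commutator_def]
      exact Subgroup.commutator_mem_commutator (Subgroup.mem_top _) (Subgroup.mem_top _)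
    have h2 : a * b = ⁅a, b⁆ * (b * a) := by simp [commutatorElement_def, mul_assoc]
    rcases hall _ h1 with h | h <;> rw [h] at h2
    · exact Or.inl (by rwa [one_mul] at h2)
    · exact Or.inr h2
  refine ⟨z, ⟨hz1, hz2, fun e => (Subgroup.mem_center_iff.1 hz e).symm, fun a => ?_, hcm,
    fun a ha => hall a (Subgroup.mem_center_iff.2 fun b => (ha b).symm)⟩, hz⟩
  refine hall _ (Subgroup.mem_center_iff.2 fun b => ?_)
  have hmove : a * z = z * a := (Subgroup.mem_center_iff.1 hz a)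
  symm
  rcases hcm a b with h | h
  · rw [mul_assoc, h, ← mul_assoc, h, mul_assoc]
  · rw [mul_assoc, h, ← mul_assoc, hmove, mul_assoc, ← mul_assoc a b a, h, ← mul_assoc z,
      ← mul_assoc z z, hz2, one_mul, mul_assoc]

/-- Dade's extension theorem. -/
theorem dade_extension {G : Type u} [Group G] [Finite G] (E H : Subgroup G) [E.Normal]
    (hE : Cfsg.IsExtraspecial 2 ↥E) (hEH : E ⊓ H = ⊥) (hEHtop : E ⊔ H = ⊤) (K : Subgroup G)
    (hKH : K ≤ H) (hKn : ∀ h ∈ H, ∀ k ∈ K, h * k * h⁻¹ ∈ K) (hKodd : Odd (Nat.card ↥K))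
    (hEK : ⁅E, K⁆ = E) (θ : Cfsg.IrrCharacter ↥E)
    (hθ : ∀ e : ↥E, (θ : ↥E → ℂ) e = (θ : ↥E → ℂ) 1 → e = 1) :
    ∃ χ : Cfsg.IrrCharacter G, ∀ e : ↥E, (χ : G → ℂ) e = (θ : ↥E → ℂ) e := by
  classical
  obtain ⟨z, X, hzc⟩ := xspec_of_extraspecial (E := ↥E) hE
  obtain ⟨θ, n, ρ, hρ, hθρ⟩ := θ
  dsimp only at hθ ⊢
  subst hθρ
  haveI := hρ
  let : Fintype E := Fintype.ofFinite E
  have hz : ρ z = -1 := by
    obtain ⟨c, hc⟩ := H12.exists_scalar_of_commute ρ (ρ z) (fun e => by
      rw [← map_mul, ← map_mul, X.central])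
    have hcne : c ≠ 1 := fun h1 => X.ne_one (hθ z (by
      simp [Representation.character, hc, h1]))
    have h2 : c * c = 1 := by
      have h1 : ρ z * ρ z = 1 := by rw [← map_mul, X.mul_self, map_one]
      rw [hc, smul_mul_smul_comm, one_mul] at h1
      have : Nontrivial (Fin n → ℂ) := H12.nontrivial_of_isIrreducible ρ
      exact smul_left_injective ℂ (one_ne_zero (α := Module.End ℂ (Fin n → ℂ)))
        (h1.trans (one_smul ℂ _).symm)
    rw [hc, (mul_self_eq_one_iff.1 h2).resolve_left hcne]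
    exact neg_one_smul ℂ (1 : Module.End ℂ (Fin n → ℂ))
  have hinv : ∀ (g : G) (r : E), ρ.character (MulAut.conjNormal g r) = ρ.character r := by
    intro g r
    by_cases h1 : r = 1
    · rw [h1, map_one]
    by_cases h2 : r = z
    · rw [h2, X.apply_eq]
    rw [char_vanish X ρ hz h1 h2, char_vanish X ρ hz
      (fun h => h1 ((map_eq_one_iff _ (MulAut.conjNormal g).injective).1 h))
      (fun h => h2 ((MulAut.conjNormal g).injective (h.trans (X.apply_eq _).symm)))]
  let φ : H →* MulAut E := (MulAut.conjNormal (H := E)).comp H.subtype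
  -- no fixed points of `K` above the centre
  have hfpf : FPF z φ (K.subgroupOf H) := by
    intro e he
    obtain ⟨g, hg⟩ := exists_quotAct X (⊤ : Subgroup E) φ (fun _ _ _ => Subgroup.mem_top _)
    let : Fintype (K.subgroupOf H) := Fintype.ofFinite _
    let Q := ZQ X (⊤ : Subgroup E)
    let mk : E → Q := fun x => QuotientGroup.mk ⟨x, Subgroup.mem_top x⟩
    let Nm : E →* Q := MonoidHom.mk' (fun x => ∏ k : K.subgroupOf H, g (k : H) (mk x))
      (fun a b => by
        rw [← Finset.prod_mul_distrib]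
        exact Finset.prod_congr rfl fun k _ => by rw [← map_mul]; rfl)
    have hker : ⁅E, K⁆ ≤ Nm.ker.map E.subtype := by
      rw [Subgroup.commutator_le]
      intro x hx k hk
      have hxm : ⁅x, k⁆ ∈ E := by
        rw [commutatorElement_def, mul_assoc, mul_assoc]
        refine mul_mem hx ?_
        have := Subgroup.Normal.conj_mem (inferInstance : E.Normal) x⁻¹ (inv_mem hx) k
        simpa [mul_assoc] using this
      refine ⟨⟨_, hxm⟩, ?_, rfl⟩
      let k' : K.subgroupOf H := ⟨⟨k, hKH hk⟩, hk⟩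
      have hdec : (⟨⁅x, k⁆, hxm⟩ : E) = ⟨x, hx⟩ * φ (k' : H) ⟨x⁻¹, inv_mem hx⟩ := by
        apply Subtype.ext
        show ⁅x, k⁆ = x * (k * x⁻¹ * k⁻¹)
        simp [commutatorElement_def, mul_assoc]
      rw [SetLike.mem_coe, MonoidHom.mem_ker, hdec, map_mul]
      have h1 : Nm (φ (k' : H) ⟨x⁻¹, inv_mem hx⟩) = Nm ⟨x⁻¹, inv_mem hx⟩ := by
        refine Fintype.prod_equiv (Equiv.mulRight k') _ _ fun l => ?_
        simp [mk, hg, MulAut.mul_apply]
      rw [h1, ← map_mul, show (⟨x, hx⟩ : E) * ⟨x⁻¹, inv_mem hx⟩ = 1 from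
        Subtype.ext (mul_inv_cancel x), map_one]
    have hNe : Nm e = 1 := by
      obtain ⟨e', he', heq⟩ := hker (hEK.symm ▸ e.2 : (e : G) ∈ ⁅E, K⁆)
      rw [← Subtype.ext heq]
      exact he'
    have h2 : Nm e = mk e ^ Nat.card (K.subgroupOf H) := by
      show ∏ k : K.subgroupOf H, g (k : H) (mk e) = _
      rw [Finset.prod_congr rfl fun (k : K.subgroupOf H) _ =>
        ((hg k ⟨e, Subgroup.mem_top e⟩).trans (congrArg QuotientGroup.mk (Subtype.ext (he k k.2))) :
          g (k : H) (mk e) = mk e), Finset.prod_const, Finset.card_univ, Nat.card_eq_fintype_card]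
    have hodd : Odd (Nat.card (K.subgroupOf H)) := by
      rwa [Nat.card_congr (Subgroup.subgroupOfEquivOfLe hKH).toEquiv]
    have hsq : mk e ^ 2 = 1 := by
      show QuotientGroup.mk ((⟨e, Subgroup.mem_top e⟩ : (⊤ : Subgroup E)) ^ 2) = 1
      rw [QuotientGroup.eq_one_iff]
      show e ^ 2 ∈ zSub X
      rw [pow_two]
      exact X.sq e
    obtain ⟨j, hj⟩ := hodd
    rw [hNe, hj, pow_succ, pow_mul, hsq, one_pow, one_mul] at h2
    exact ((QuotientGroup.eq_one_iff _).1 h2.symm :)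
  -- extensions on the Sylow preimages
  obtain ⟨χ, hχ, hres⟩ := H15.extends_of_sylow hinv fun p hp => by
    haveI := Fact.mk hp
    obtain ⟨S⟩ : Nonempty (Sylow p H) := inferInstance
    have hl : Lift ρ (φ.comp (S : Subgroup H).subtype) := by
      by_cases h2 : p = 2
      · subst h2
        refine good_all _ E z le_rfl X (Fin n → ℂ) ρ hz H φ S (K.subgroupOf H) S.isPGroup' ?_ ?_
          hfpf
        · rwa [Nat.card_congr (Subgroup.subgroupOfEquivOfLe hKH).toEquiv]
        · intro t _ k hk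
          exact hKn t t.2 k hk
      · refine lift_of_odd X ρ hz ?_ _
        obtain ⟨m, hm⟩ := IsPGroup.iff_card.1 S.isPGroup'
        rw [hm]
        exact (hp.odd_of_ne_two h2).pow
    obtain ⟨D, hD⟩ := hl
    let ψ : (S : Subgroup H) →* MulAut E := φ.comp (S : Subgroup H).subtype
    let j : (S : Subgroup H) →* G := H.subtype.comp (S : Subgroup H).subtype
    have hcond : ∀ s : (S : Subgroup H), E.subtype.comp (ψ s).toMonoidHom =
        (MulAut.conj (j s)).toMonoidHom.comp E.subtype := fun s => MonoidHom.ext fun x => rfl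
    let F : E ⋊[ψ] (S : Subgroup H) →* G := SemidirectProduct.lift E.subtype j hcond
    have hF : ∀ x, F x = (x.left : G) * ((x.right : H) : G) := fun x => rfl
    have hFinj : Function.Injective F := by
      rw [injective_iff_map_eq_one]
      intro x hx
      rw [hF] at hx
      have h1 : (x.left : G) ∈ E ⊓ H := by
        refine ⟨x.left.2, ?_⟩
        rw [eq_inv_of_mul_eq_one_left hx]
        exact Subgroup.inv_mem H (x.right : H).2
      rw [hEH, Subgroup.mem_bot] at h1
      rw [h1, one_mul] at hx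
      exact SemidirectProduct.ext (Subtype.ext h1) (Subtype.ext (Subtype.ext hx))
    let e := MonoidHom.ofInjective hFinj
    let ρu : E →* (Module.End ℂ (Fin n → ℂ))ˣ := (ρ : E →* Module.End ℂ (Fin n → ℂ)).toHomUnits
    let σu : E ⋊[ψ] (S : Subgroup H) →* (Module.End ℂ (Fin n → ℂ))ˣ :=
      SemidirectProduct.lift ρu D fun s => MonoidHom.ext fun x => by
        show ρu (ψ s x) = D s * ρu x * (D s)⁻¹
        rw [eq_mul_inv_iff_mul_eq]
        exact Units.ext (hD s x).symm
    have hEle : E ≤ F.range := fun x hx => ⟨SemidirectProduct.inl ⟨x, hx⟩, by simp [F]⟩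
    refine ⟨F.range, hEle, (Units.coeHom _).comp (σu.comp e.symm.toMonoidHom), ?_, fun r => ?_⟩
    · have h1 : Nat.card F.range = Nat.card E * Nat.card (S : Subgroup H) := by
        rw [← Nat.card_congr e.toEquiv, SemidirectProduct.card]
      have hGE : Nat.card G = Nat.card E * Nat.card H :=
        ((Subgroup.isComplement'_of_disjoint_and_mul_eq_univ (disjoint_iff.2 hEH) (by
          rw [← Subgroup.normal_mul, hEHtop, Subgroup.coe_top])).card_mul).symm
      have h2 := F.range.card_mul_index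
      rw [h1, hGE, ← (S : Subgroup H).card_mul_index, ← mul_assoc] at h2
      rw [Nat.eq_of_mul_eq_mul_left (Nat.mul_pos Nat.card_pos Nat.card_pos) h2]
      exact (hp.coprime_iff_not_dvd.2 S.not_dvd_index).symm
    · have h3 : e.symm ⟨(r : G), hEle r.2⟩ = SemidirectProduct.inl r := by
        rw [MulEquiv.symm_apply_eq]
        exact Subtype.ext (by simp [e, F, MonoidHom.ofInjective_apply])
      show ((σu (e.symm ⟨(r : G), _⟩) : (Module.End ℂ (Fin n → ℂ))ˣ) : Module.End ℂ _) = ρ r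
      rw [h3, SemidirectProduct.lift_inl]
      rfl
  exact ⟨⟨χ, hχ⟩, fun e => hres e⟩

end H61.Dade
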