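import Cfsg.Agent.H61.Dade.XRep
import Mathlib.RingTheory.TensorProduct.Finite
import Mathlib.GroupTheory.NoncommCoprod
import Mathlib.LinearAlgebra.Dimension.Constructions

/-!
# Central products: lifting through a tensor product, and tensor induction of index two
-/

set_option autoImplicit false
set_option linter.unusedSectionVars false

open Cfsg Module
open scoped TensorProduct

namespace H61.Dade

universe u v

variable {E : Type u} [Group E] [Finite E] {z : E} {V : Type} [AddCommGroup V] [Module ℂ V]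
  [FiniteDimensional ℂ V]
variable {U C : Subgroup E} {A B : Type} [AddCommGroup A] [Module ℂ A] [FiniteDimensional ℂ A]
  [AddCommGroup B] [Module ℂ B] [FiniteDimensional ℂ B]

/-- The data of a decomposition of `E` as a central product over `{1, z}`. -/
structure CentralDecomp (z : E) (U C : Subgroup E) : Prop where
  comm : ∀ u ∈ U, ∀ c ∈ C, u * c = c * u
  sup : U ⊔ C = ⊤
  inf : ∀ e ∈ U, e ∈ C → e = 1 ∨ e = z
  memU : z ∈ U
  memC : z ∈ C

theorem CentralDecomp.exists_mul (d : CentralDecomp z U C) (e : E) :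
    ∃ (u : U) (c : C), (u : E) * c = e := by
  have hr := MonoidHom.noncommCoprod_range U.subtype C.subtype fun u c => d.comm u u.2 c c.2
  rw [Subgroup.range_subtype, Subgroup.range_subtype, d.sup] at hr
  obtain ⟨⟨u, c⟩, h⟩ := (hr.ge (Subgroup.mem_top e) :)
  exact ⟨u, c, h⟩

theorem CentralDecomp.xspec_left (d : CentralDecomp z U C) (X : XSpec E z) :
    XSpec ↥U ⟨z, d.memU⟩ where
  ne_one h := X.ne_one (congrArg Subtype.val h)
  mul_self := Subtype.ext X.mul_self
  central e := Subtype.ext (X.central e)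
  sq a := (X.sq a).imp (fun h => Subtype.ext h) (fun h => Subtype.ext h)
  comm a b := (X.comm a b).imp (fun h => Subtype.ext h) (fun h => Subtype.ext h)
  center a ha := by
    refine (X.center a fun e => ?_).imp (fun h => Subtype.ext h) (fun h => Subtype.ext h)
    obtain ⟨u, c, rfl⟩ := d.exists_mul e
    rw [← mul_assoc, show (a : E) * u = u * a from congrArg Subtype.val (ha u), mul_assoc,
      d.comm a a.2 c c.2, mul_assoc]

theorem CentralDecomp.symm (d : CentralDecomp z U C) : CentralDecomp z C U :=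
  ⟨fun c hc u hu => (d.comm u hu c hc).symm, by rw [sup_comm]; exact d.sup,
    fun e h1 h2 => d.inf e h2 h1, d.memC, d.memU⟩

theorem CentralDecomp.exists_rep (d : CentralDecomp z U C) (X : XSpec E z)
    (ρU : Representation ℂ U A) [ρU.IsIrreducible] (hzU : ρU ⟨z, d.memU⟩ = -1)
    (ρC : Representation ℂ C B) [ρC.IsIrreducible] (hzC : ρC ⟨z, d.memC⟩ = -1) :
    ∃ σ : Representation ℂ E (A ⊗[ℂ] B), σ z = -1 ∧ σ.IsIrreducible ∧
      ∀ (u : U) (c : C), σ ((u : E) * c) = TensorProduct.map (ρU u) (ρC c) := by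
  let μ : U × C →* E :=
    MonoidHom.noncommCoprod U.subtype C.subtype fun u c => d.comm u u.2 c c.2
  have hμ : ∀ x : U × C, μ x = (x.1 : E) * x.2 := fun _ => rfl
  have hsurj : Function.Surjective μ := by
    intro e
    obtain ⟨u, c, h⟩ := d.exists_mul e
    exact ⟨(u, c), h⟩
  let zz : U × C := (⟨z, d.memU⟩, ⟨z, d.memC⟩)
  have hker : ∀ x : U × C, μ x = 1 → x = 1 ∨ x = zz := by
    rintro ⟨⟨u, hu⟩, ⟨c, hc⟩⟩ h
    have h' : u * c = 1 := h
    have huc : u = c⁻¹ := eq_inv_of_mul_eq_one_left h'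
    rcases d.inf u hu (huc ▸ inv_mem hc) with h1 | h1
    · left
      subst h1
      rw [one_mul] at h'
      subst h'
      rfl
    · right
      subst h1
      have : c = u := mul_left_cancel (a := u) (h'.trans X.mul_self.symm)
      subst this
      rfl
  let τ : U × C →* Module.End ℂ (A ⊗[ℂ] B) :=
    Representation.tprod (MonoidHom.comp ρU (MonoidHom.fst U C))
      (MonoidHom.comp ρC (MonoidHom.snd U C))
  have hτ : ∀ x : U × C, τ x = TensorProduct.map (ρU x.1) (ρC x.2) := fun _ => rfl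
  have hzz : τ zz = 1 := by
    rw [hτ]
    refine TensorProduct.ext' fun a b => ?_
    simp [zz, hzU, hzC, TensorProduct.neg_tmul, TensorProduct.tmul_neg]
  have hle : μ.ker ≤ τ.ker := by
    intro x hx
    rcases hker x hx with h | h
    · rw [h]; exact one_mem _
    · rw [h]; exact hzz
  let e := QuotientGroup.quotientKerEquivOfSurjective μ hsurj
  let σ : Representation ℂ E (A ⊗[ℂ] B) :=
    MonoidHom.comp (QuotientGroup.lift μ.ker τ hle) e.symm.toMonoidHom
  have hσ : ∀ x, σ (μ x) = τ x := by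
    intro x
    show QuotientGroup.lift μ.ker τ hle (e.symm (μ x)) = τ x
    have : e.symm (μ x) = (QuotientGroup.mk x : (U × C) ⧸ μ.ker) := by
      rw [MulEquiv.symm_apply_eq]; rfl
    rw [this, QuotientGroup.lift_mk]
  have hσz : σ z = -1 := by
    have h := hσ (⟨z, d.memU⟩, 1)
    rw [hμ, OneMemClass.coe_one, mul_one] at h
    rw [h, hτ]
    refine TensorProduct.ext' fun a b => ?_
    simp [hzU, TensorProduct.neg_tmul]
  refine ⟨σ, hσz, isIrreducible_of_card X σ hσz ?_, fun u c => hσ (u, c)⟩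
  have h1 := card_eq (d.xspec_left X) ρU hzU
  have h2 := card_eq (d.symm.xspec_left X) ρC hzC
  have h3 : Nat.card μ.ker = 2 := by
    rw [Nat.card_eq_two_iff]
    refine ⟨1, ⟨zz, ?_⟩, fun h => ?_, ?_⟩
    · rw [MonoidHom.mem_ker, hμ]; exact X.mul_self
    · exact X.ne_one (congrArg (fun x : μ.ker => (x.1.1 : E)) h).symm
    · ext x
      simp only [Set.mem_insert_iff, Set.mem_singleton_iff, Set.mem_univ, iff_true]
      exact (hker x x.2).imp (fun h => Subtype.ext h) (fun h => Subtype.ext h)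
  have h4 := Subgroup.card_eq_card_quotient_mul_card_subgroup μ.ker
  rw [Nat.card_congr e.toEquiv, h3, Nat.card_prod, h1, h2] at h4
  rw [Module.finrank_tensorProduct]
  refine Nat.eq_of_mul_eq_mul_right two_pos (h4.symm.trans ?_)
  ring

/-- Lifts on both factors of a central product give a lift on the product. -/
theorem CentralDecomp.lift (d : CentralDecomp z U C) (X : XSpec E z)
    {ρ : Representation ℂ E V} [ρ.IsIrreducible] (hz : ρ z = -1) {H : Type v} [Group H]
    (φ : H →* MulAut E) (φU : H →* MulAut U) (φC : H →* MulAut C)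
    (hφU : ∀ h (u : U), (φU h u : E) = φ h u) (hφC : ∀ h (c : C), (φC h c : E) = φ h c)
    (ρU : Representation ℂ U A) [ρU.IsIrreducible] (hzU : ρU ⟨z, d.memU⟩ = -1)
    (ρC : Representation ℂ C B) [ρC.IsIrreducible] (hzC : ρC ⟨z, d.memC⟩ = -1)
    (hlU : Lift ρU φU) (hlC : Lift ρC φC) : Lift ρ φ := by
  obtain ⟨σ, hσz, hσi, hσ⟩ := d.exists_rep X ρU hzU ρC hzC
  refine Lift.change X hσz hz ?_
  obtain ⟨DU, hDU⟩ := hlU
  obtain ⟨DC, hDC⟩ := hlC
  refine ⟨(Representation.tprod ((Units.coeHom _).comp DU)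
    ((Units.coeHom _).comp DC)).toHomUnits, fun h e => ?_⟩
  obtain ⟨u, c, rfl⟩ := d.exists_mul e
  show TensorProduct.map (DU h : Module.End ℂ A) (DC h : Module.End ℂ B) * σ ((u : E) * c) =
    σ (φ h ((u : E) * c)) * TensorProduct.map (DU h : Module.End ℂ A) (DC h : Module.End ℂ B)
  rw [map_mul (φ h), ← hφU, ← hφC, hσ, hσ, ← TensorProduct.map_mul, ← TensorProduct.map_mul,
    hDU, hDC]

/-- Tensor induction along a subgroup of index two. -/
theorem CentralDecomp.lift_index_two (d : CentralDecomp z U C) (X : XSpec E z)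
    {ρ : Representation ℂ E V} [ρ.IsIrreducible] (hz : ρ z = -1) {H : Type v} [Group H]
    (φ : H →* MulAut E) (H0 : Subgroup H) (hi : H0.index = 2) (t : H) (ht : t ∉ H0)
    (htU : ∀ u : E, u ∈ U → φ t u ∈ C) (htC : ∀ c : E, c ∈ C → φ t c ∈ U)
    (htC' : ∀ c : E, c ∈ C → φ t⁻¹ c ∈ U)
    (φU : H0 →* MulAut U) (hφU : ∀ (h : H0) (u : U), (φU h u : E) = φ h u)
    (hH0C : ∀ s : H0, ∀ c : E, c ∈ C → φ s c ∈ C)
    (ρU : Representation ℂ U A) [ρU.IsIrreducible] (hzU : ρU ⟨z, d.memU⟩ = -1)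
    (hlU : Lift ρU φU) : Lift ρ φ := by
  classical
  have hn : H0.Normal := Subgroup.normal_of_index_eq_two hi
  let α : C →* U :=
    { toFun := fun c => ⟨φ t⁻¹ c, htC' c c.2⟩
      map_one' := Subtype.ext (map_one (φ t⁻¹))
      map_mul' := fun a b => Subtype.ext (map_mul (φ t⁻¹) (a : E) b) }
  let ρC : Representation ℂ C A := MonoidHom.comp ρU α
  have hzC : ρC ⟨z, d.memC⟩ = -1 := by
    show ρU (α ⟨z, d.memC⟩) = -1
    rw [show α ⟨z, d.memC⟩ = ⟨z, d.memU⟩ from Subtype.ext (X.apply_eq (φ t⁻¹)), hzU]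
  have : ρC.IsIrreducible := by
    refine isIrreducible_of_card (d.symm.xspec_left X) ρC hzC ?_
    rw [← card_eq (d.xspec_left X) ρU hzU]
    refine Nat.card_congr ⟨fun c => α c, fun u => ⟨φ t u, htU u u.2⟩, fun c => Subtype.ext ?_,
      fun u => Subtype.ext ?_⟩
    · show φ t (φ t⁻¹ c) = c
      simp
    · show φ t⁻¹ (φ t u) = u
      simp
  obtain ⟨σ, hσz, hσi, hσ⟩ := d.exists_rep X ρU hzU ρC hzC
  refine Lift.change X hσz hz ?_
  obtain ⟨D, hD⟩ := hlU
  have hD' : ∀ (s : H0) (u : U), (D s : Module.End ℂ A) * ρU u =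
      ρU (φU s u) * (D s : Module.End ℂ A) := hD
  -- conjugation by `t` on `H0`
  let cj : H0 →* H0 :=
    { toFun := fun s => ⟨t⁻¹ * s * t, by simpa using hn.conj_mem s s.2 t⁻¹⟩
      map_one' := Subtype.ext (by simp)
      map_mul' := fun a b => Subtype.ext (by simp [mul_assoc]) }
  let D0 : H0 →* Module.End ℂ (A ⊗[ℂ] A) :=
    Representation.tprod ((Units.coeHom _).comp D) (((Units.coeHom _).comp D).comp cj)
  have htt : t * t ∈ H0 := (Subgroup.mul_mem_iff_of_index_two hi).2 (by simp [ht])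
  let tt : H0 := ⟨t * t, htt⟩
  let T : Module.End ℂ (A ⊗[ℂ] A) :=
    TensorProduct.map (D tt : Module.End ℂ A) (1 : Module.End ℂ A) *
      (TensorProduct.comm ℂ A A).toLinearMap
  have hT : ∀ a b : A, T (a ⊗ₜ b) = (D tt : Module.End ℂ A) b ⊗ₜ a := fun a b => rfl
  clear_value T
  have hD0 : ∀ (s : H0) (a b : A), D0 s (a ⊗ₜ b) =
      (D s : Module.End ℂ A) a ⊗ₜ (D (cj s) : Module.End ℂ A) b := fun s a b => rfl
  have hcjtt : cj tt = tt := Subtype.ext (by simp [cj, tt, mul_assoc])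
  have hcj2 : ∀ s : H0, tt * cj (cj s) = s * tt := fun s => Subtype.ext (by simp [cj, tt, mul_assoc])
  have hDm : ∀ (x y : H0) (a : A), (D x : Module.End ℂ A) ((D y : Module.End ℂ A) a) =
      (D (x * y) : Module.End ℂ A) a := by
    intro x y a
    rw [map_mul, Units.val_mul, Module.End.mul_apply]
  have hswap : ∀ s : H0, D0 s * T = T * D0 (cj s) := by
    intro s
    refine TensorProduct.ext' fun a b => ?_
    simp only [Module.End.mul_apply, hT, hD0, hDm, hcj2]
  have hTT : T * T = D0 tt := by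
    refine TensorProduct.ext' fun a b => ?_
    simp only [Module.End.mul_apply, hT, hD0, hcjtt]
  have hmem : ∀ g : H, g ∉ H0 → t⁻¹ * g ∈ H0 := fun g hg =>
    (Subgroup.mul_mem_iff_of_index_two hi).2 (by simp [ht, hg])
  let F : H → Module.End ℂ (A ⊗[ℂ] A) := fun g =>
    if hg : g ∈ H0 then D0 ⟨g, hg⟩ else T * D0 ⟨t⁻¹ * g, hmem g hg⟩
  have hFin : ∀ (g : H) (hg : g ∈ H0), F g = D0 ⟨g, hg⟩ := fun g hg => dif_pos hg
  have hFout : ∀ (g : H) (hg : g ∉ H0), F g = T * D0 ⟨t⁻¹ * g, hmem g hg⟩ := fun g hg => dif_neg hg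
  have hFmul : ∀ a b, F (a * b) = F a * F b := by
    intro a b
    by_cases ha : a ∈ H0 <;> by_cases hb : b ∈ H0
    · rw [hFin a ha, hFin b hb, hFin _ (mul_mem ha hb), ← map_mul]
      rfl
    · have hab : a * b ∉ H0 := fun h => hb ((Subgroup.mul_mem_cancel_left H0 ha).1 h)
      rw [hFin a ha, hFout b hb, hFout _ hab, ← mul_assoc (D0 _) T, hswap, mul_assoc, ← map_mul]
      congr 2
      exact Subtype.ext (by simp [cj, mul_assoc])
    · have hab : a * b ∉ H0 := fun h => ha ((Subgroup.mul_mem_cancel_right H0 hb).1 h)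
      rw [hFout a ha, hFin b hb, hFout _ hab, mul_assoc T, ← map_mul]
      congr 2
      exact Subtype.ext (by simp [mul_assoc])
    · have hab : a * b ∈ H0 := (Subgroup.mul_mem_iff_of_index_two hi).2 (by simp [ha, hb])
      rw [hFout a ha, hFout b hb, hFin _ hab, mul_assoc, ← mul_assoc (D0 _) T, hswap, ← mul_assoc,
        ← mul_assoc, hTT, mul_assoc, ← map_mul, ← map_mul]
      congr 1
      exact Subtype.ext (by simp [cj, tt, mul_assoc])
  have hF1 : F 1 = 1 := by
    rw [hFin 1 (one_mem _)]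
    exact map_one D0
  let Fh : H →* Module.End ℂ (A ⊗[ℂ] A) := ⟨⟨F, hF1⟩, hFmul⟩
  let ok : H → Module.End ℂ (A ⊗[ℂ] A) → Prop := fun g M => ∀ e, M * σ e = σ (φ g e) * M
  have hok0 : ∀ s : H0, ok s (D0 s) := by
    intro s e
    obtain ⟨u, c, rfl⟩ := d.exists_mul e
    have hu : φ (s : H) u = (φU s u : E) := (hφU s u).symm
    let c' : C := ⟨φ (s : H) c, hH0C s c c.2⟩
    have hc : α c' = φU (cj s) (α c) := by
      apply Subtype.ext
      rw [hφU]
      show φ t⁻¹ (φ (s : H) c) = φ (t⁻¹ * s * t) (φ t⁻¹ c)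
      simp [map_mul, MulAut.mul_apply]
    rw [map_mul (φ (s : H)), hu, show φ (s : H) c = (c' : E) from rfl, hσ, hσ]
    show TensorProduct.map (D s : Module.End ℂ A) (D (cj s) : Module.End ℂ A) *
        TensorProduct.map (ρU u) (ρU (α c)) =
      TensorProduct.map (ρU (φU s u)) (ρU (α c')) *
        TensorProduct.map (D s : Module.End ℂ A) (D (cj s) : Module.End ℂ A)
    rw [← TensorProduct.map_mul, ← TensorProduct.map_mul, hD', hD', hc]
  have hokT : ok t T := by
    intro e
    obtain ⟨u, c, rfl⟩ := d.exists_mul e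
    let u' : U := ⟨φ t c, htC c c.2⟩
    let c' : C := ⟨φ t u, htU u u.2⟩
    have hu' : u' = φU tt (α c) := by
      apply Subtype.ext
      rw [hφU]
      show φ t c = φ (t * t) (φ t⁻¹ c)
      simp [map_mul, MulAut.mul_apply]
    have hc' : α c' = u := Subtype.ext (show φ t⁻¹ (φ t u) = u by simp)
    have he : φ t ((u : E) * c) = (u' : E) * c' := by
      rw [d.comm u u.2 c c.2, map_mul]
    rw [he, hσ, hσ]
    refine TensorProduct.ext' fun a b => ?_
    show T (ρU u a ⊗ₜ ρU (α c) b) = TensorProduct.map (ρU u') (ρU (α c')) (T (a ⊗ₜ b))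
    rw [hT, hT, TensorProduct.map_tmul, hc', hu']
    congr 1
    exact LinearMap.congr_fun (hD' tt (α c)) b
  have hok : ∀ g, ok g (F g) := by
    intro g
    by_cases hg : g ∈ H0
    · rw [hFin g hg]; exact hok0 ⟨g, hg⟩
    · intro e
      rw [hFout g hg, mul_assoc, hok0 ⟨t⁻¹ * g, hmem g hg⟩ e, ← mul_assoc, hokT, mul_assoc]
      simp [map_mul, MulAut.mul_apply]
  exact ⟨Fh.toHomUnits, fun g e => hok g e⟩

end H61.Dade
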