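import Cfsg.Agent.H12.Orth
import Mathlib.LinearAlgebra.TensorProduct.Map

/-!
# Representations of groups of extraspecial shape with faithful centre

`XSpec E z`: `z` is a central involution, squares and commutators lie in `{1, z}` and the centre is
`{1, z}` (the group `{1, z}` itself is allowed). An irreducible representation sending `z` to `-1`
has dimension `n` with `2 n² = #E` and is unique.
-/

set_option autoImplicit false

open Cfsg Module

namespace H61.Dade

universe u v

/-- Groups of extraspecial shape. -/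
structure XSpec (E : Type u) [Group E] (z : E) : Prop where
  ne_one : z ≠ 1
  mul_self : z * z = 1
  central : ∀ e : E, z * e = e * z
  sq : ∀ a : E, a * a = 1 ∨ a * a = z
  comm : ∀ a b : E, a * b = b * a ∨ a * b = z * (b * a)
  center : ∀ a : E, (∀ b : E, a * b = b * a) → a = 1 ∨ a = z

variable {E : Type u} [Group E] [Finite E] {z : E}

omit [Finite E] in
theorem XSpec.apply_eq (X : XSpec E z) (f : MulAut E) : f z = z := by
  rcases X.center (f z) (fun b => by
      obtain ⟨b, rfl⟩ := f.surjective b
      rw [← map_mul, ← map_mul, X.central]) with h | h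
  · exact absurd ((map_eq_one_iff f f.injective).1 h) X.ne_one
  · exact h

/-- A lift of automorphisms of `E` to a genuine action intertwining `ρ`. -/
def Lift {V : Type} [AddCommGroup V] [Module ℂ V] (ρ : Representation ℂ E V) {H : Type v}
    [Group H] (φ : H →* MulAut E) : Prop :=
  ∃ D : H →* (Module.End ℂ V)ˣ, ∀ (h : H) (e : E),
    (D h : Module.End ℂ V) * ρ e = ρ (φ h e) * (D h : Module.End ℂ V)

variable {V W : Type} [AddCommGroup V] [Module ℂ V] [FiniteDimensional ℂ V]
  [AddCommGroup W] [Module ℂ W] [FiniteDimensional ℂ W]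

section Sub

variable {G : Type u} [Group G] (σ : Representation ℂ G V)

theorem exists_irreducible_le (a : Subrepresentation σ) (ha : a.toSubmodule ≠ ⊥) :
    ∃ b : Subrepresentation σ, b.toSubmodule ≤ a.toSubmodule ∧ b.toSubmodule ≠ ⊥ ∧
      b.toRepresentation.IsIrreducible := by
  classical
  have hex : ∃ n, ∃ b : Subrepresentation σ, b.toSubmodule ≤ a.toSubmodule ∧
      b.toSubmodule ≠ ⊥ ∧ finrank ℂ b.toSubmodule = n := ⟨_, a, le_rfl, ha, rfl⟩
  obtain ⟨b, hb, hb0, hbn⟩ := Nat.find_spec hex
  refine ⟨b, hb, hb0, ?_⟩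
  refine @IsSimpleOrder.mk _ _ _ ⟨⊥, ⊤, ?_⟩ fun c => ?_
  · have : Nontrivial b.toSubmodule := (Submodule.nontrivial_iff_ne_bot).2 hb0
    exact fun h => bot_ne_top (α := Submodule ℂ b.toSubmodule)
      (congrArg Subrepresentation.toSubmodule h)
  · let c' : Subrepresentation σ := ⟨c.toSubmodule.map b.toSubmodule.subtype, by
      rintro g _ ⟨w, hw, rfl⟩
      exact ⟨b.toRepresentation g w, c.apply_mem_toSubmodule g hw, rfl⟩⟩
    by_cases hc : c.toSubmodule = ⊥
    · exact Or.inl (Subrepresentation.toSubmodule_injective hc)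
    · refine Or.inr (Subrepresentation.toSubmodule_injective ?_)
      have hle : c'.toSubmodule ≤ a.toSubmodule :=
        le_trans (Submodule.map_subtype_le _ _) hb
      have hne : c'.toSubmodule ≠ ⊥ := by
        intro h
        exact hc (Submodule.map_injective_of_injective (Submodule.injective_subtype b.toSubmodule)
          (h.trans (Submodule.map_bot b.toSubmodule.subtype).symm))
      have hge := Nat.find_min' hex ⟨c', hle, hne, rfl⟩
      rw [← hbn] at hge
      have heq : finrank ℂ c'.toSubmodule = finrank ℂ c.toSubmodule :=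
        Submodule.finrank_map_subtype_eq _ _
      exact Submodule.eq_top_of_finrank_eq (le_antisymm (Submodule.finrank_le _) (by omega))

end Sub

theorem char_vanish (X : XSpec E z) (ρ : Representation ℂ E V) (hz : ρ z = -1) {a : E}
    (h1 : a ≠ 1) (hza : a ≠ z) : ρ.character a = 0 := by
  obtain ⟨b, hb⟩ : ∃ b, a * b ≠ b * a := by
    by_contra h
    simp only [not_exists, not_not] at h
    rcases X.center a h with h | h
    exacts [h1 h, hza h]
  have hb' := (X.comm a b).resolve_left hb
  have hc : b⁻¹ * a * b⁻¹⁻¹ = z * a := by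
    rw [inv_inv, mul_assoc, hb', ← mul_assoc, ← X.central, mul_assoc, inv_mul_cancel_left]
  have h := ρ.char_conj a b⁻¹
  rw [hc] at h
  have h2 : ρ.character (z * a) = -ρ.character a := by
    simp [Representation.character, hz]
  rw [h2] at h
  exact CharZero.neg_eq_self_iff.1 h

theorem finrank_intertwining (X : XSpec E z) (ρ : Representation ℂ E V)
    (σ : Representation ℂ E W) (hz : ρ z = -1) (hz' : σ z = -1) :
    finrank ℂ (σ.IntertwiningMap ρ) * Nat.card E = 2 * finrank ℂ V * finrank ℂ W := by
  classical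
  let : Fintype E := Fintype.ofFinite E
  have h := H12.classInner_character ρ σ
  rw [classInner, inv_mul_eq_iff_eq_mul₀ (Nat.cast_ne_zero.2 Nat.card_pos.ne')] at h
  rw [← Finset.sum_subset (Finset.subset_univ ({1, z} : Finset E)) (fun a _ ha => by
      simp only [Finset.mem_insert, Finset.mem_singleton, not_or] at ha
      rw [char_vanish X ρ hz ha.1 ha.2, zero_mul]),
    Finset.sum_pair X.ne_one.symm] at h
  have hρ : ρ.character z = -(finrank ℂ V : ℂ) := by simp [Representation.character, hz]
  have hσ : σ.character z = -(finrank ℂ W : ℂ) := by simp [Representation.character, hz']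
  rw [hρ, hσ, Representation.char_one, Representation.char_one, map_neg, Complex.conj_natCast]
    at h
  have h' : ((finrank ℂ (σ.IntertwiningMap ρ) * Nat.card E : ℕ) : ℂ) =
      ((2 * finrank ℂ V * finrank ℂ W : ℕ) : ℂ) := by
    push_cast
    linear_combination -h
  exact_mod_cast h'

theorem card_eq (X : XSpec E z) (ρ : Representation ℂ E V) [ρ.IsIrreducible] (hz : ρ z = -1) :
    Nat.card E = 2 * finrank ℂ V * finrank ℂ V := by
  have h := finrank_intertwining X ρ ρ hz hz
  rwa [Representation.IsIrreducible.finrank_intertwiningMap_self, one_mul] at h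

theorem isIrreducible_of_card (X : XSpec E z) (ρ : Representation ℂ E V) (hz : ρ z = -1)
    (hd : Nat.card E = 2 * finrank ℂ V * finrank ℂ V) : ρ.IsIrreducible := by
  have hpos : 0 < finrank ℂ V := by
    by_contra h
    rw [Nat.eq_zero_of_not_pos h, mul_zero] at hd
    exact Nat.card_pos.ne' hd
  refine @IsSimpleOrder.mk _ _ _ ⟨⊥, ⊤, ?_⟩ fun a => ?_
  · have : Nontrivial V := Module.nontrivial_of_finrank_pos hpos
    exact fun h => bot_ne_top (α := Submodule ℂ V) (congrArg Subrepresentation.toSubmodule h)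
  · by_cases ha : a.toSubmodule = ⊥
    · exact Or.inl (Subrepresentation.toSubmodule_injective ha)
    · refine Or.inr (Subrepresentation.toSubmodule_injective ?_)
      obtain ⟨b, hba, -, hb⟩ := exists_irreducible_le ρ a ha
      have hzb : b.toRepresentation z = -1 := by
        refine LinearMap.ext fun w => Subtype.ext ?_
        show ρ z w = ((-1 : Module.End ℂ b.toSubmodule) w : V)
        rw [hz]
        rfl
      have h := card_eq X b.toRepresentation hzb
      rw [hd, mul_assoc, mul_assoc] at h
      have h' := Nat.mul_self_inj.1 (Nat.eq_of_mul_eq_mul_left two_pos h)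
      exact top_le_iff.1 ((Submodule.eq_top_of_finrank_eq h'.symm).ge.trans hba)

/-- Two irreducible representations with `z ↦ -1` are equivalent. -/
theorem exists_equiv (X : XSpec E z) (ρ : Representation ℂ E V) [ρ.IsIrreducible]
    (σ : Representation ℂ E W) [σ.IsIrreducible] (hz : ρ z = -1) (hz' : σ z = -1) :
    ∃ f : V ≃ₗ[ℂ] W, ∀ (e : E) (v : V), f (ρ e v) = σ e (f v) := by
  have h1 := card_eq X ρ hz
  have h2 := card_eq X σ hz'
  have h3 := finrank_intertwining X σ ρ hz' hz
  have hpos : 0 < finrank ℂ (ρ.IntertwiningMap σ) := by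
    by_contra h
    rw [Nat.eq_zero_of_not_pos h, zero_mul] at h3
    have := H12.finrank_pos_of_isIrreducible ρ
    have := H12.finrank_pos_of_isIrreducible σ
    rcases Nat.mul_eq_zero.1 h3.symm with h4 | h4 <;> omega
  have : Nontrivial (ρ.IntertwiningMap σ) := Module.nontrivial_of_finrank_pos hpos
  obtain ⟨f, hf⟩ := exists_ne (0 : ρ.IntertwiningMap σ)
  have hb := (Representation.IsIrreducible.bijective_or_eq_zero f).resolve_right hf
  exact ⟨LinearEquiv.ofBijective f.toLinearMap hb,
    fun e v => LinearMap.congr_fun (f.isIntertwining' e) v⟩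

/-- Units of endomorphism rings from linear equivalences. -/
noncomputable def eqvUnit (f : V ≃ₗ[ℂ] V) : (Module.End ℂ V)ˣ where
  val := f.toLinearMap
  inv := f.symm.toLinearMap
  val_inv := LinearMap.ext fun v => f.apply_symm_apply v
  inv_val := LinearMap.ext fun v => f.symm_apply_apply v

/-- Every automorphism is intertwined by some invertible operator. -/
theorem exists_intertwiner (X : XSpec E z) (ρ : Representation ℂ E V) [ρ.IsIrreducible]
    (hz : ρ z = -1) (α : MulAut E) :
    ∃ M : (Module.End ℂ V)ˣ, ∀ e,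
      (M : Module.End ℂ V) * ρ e = ρ (α e) * (M : Module.End ℂ V) := by
  let σ : Representation ℂ E V := MonoidHom.comp ρ α.toMonoidHom
  have hz' : σ z = -1 := by
    show ρ (α z) = -1
    rw [X.apply_eq, hz]
  have : σ.IsIrreducible := isIrreducible_of_card X σ hz' (card_eq X ρ hz)
  obtain ⟨f, hf⟩ := exists_equiv X ρ σ hz hz'
  exact ⟨eqvUnit f, fun e => LinearMap.ext fun v => hf e v⟩

omit [FiniteDimensional ℂ V] [FiniteDimensional ℂ W] in
theorem conj_mul (f : V ≃ₗ[ℂ] W) (A B : Module.End ℂ V) :
    f.conj (A * B) = f.conj A * f.conj B := by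
  ext w
  simp [LinearEquiv.conj_apply]

omit [FiniteDimensional ℂ V] [FiniteDimensional ℂ W] in
theorem Lift.transport {ρ : Representation ℂ E V} {σ : Representation ℂ E W} {H : Type v}
    [Group H] {φ : H →* MulAut E} (hl : Lift ρ φ) (f : V ≃ₗ[ℂ] W)
    (hf : ∀ (e : E) (v : V), f (ρ e v) = σ e (f v)) : Lift σ φ := by
  obtain ⟨D, hD⟩ := hl
  let F : Module.End ℂ V →* Module.End ℂ W :=
    { toFun := fun A => f.conj A
      map_one' := by ext w; simp [LinearEquiv.conj_apply]
      map_mul' := conj_mul f }
  have hσ : ∀ e, σ e = F (ρ e) := by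
    intro e
    ext w
    show σ e w = f.conj (ρ e) w
    simp [LinearEquiv.conj_apply, hf]
  refine ⟨(Units.map F).comp D, fun h e => ?_⟩
  show F (D h) * σ e = σ (φ h e) * F (D h)
  rw [hσ, hσ, ← map_mul, ← map_mul, hD]

/-- A lift of one irreducible representation gives one for every other. -/
theorem Lift.change (X : XSpec E z) {ρ : Representation ℂ E V} [ρ.IsIrreducible]
    (hz : ρ z = -1) {σ : Representation ℂ E W} [σ.IsIrreducible] (hz' : σ z = -1)
    {H : Type v} [Group H] {φ : H →* MulAut E} (hl : Lift ρ φ) : Lift σ φ := by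
  obtain ⟨f, hf⟩ := exists_equiv X ρ σ hz hz'
  exact hl.transport f hf

omit [Finite E] [FiniteDimensional ℂ V] in
theorem Lift.comp {ρ : Representation ℂ E V} {H : Type v} [Group H] {φ : H →* MulAut E}
    (hl : Lift ρ φ) {H' : Type*} [Group H'] (f : H' →* H) : Lift ρ (φ.comp f) := by
  obtain ⟨D, hD⟩ := hl
  exact ⟨D.comp f, fun h e => hD (f h) e⟩

/-- Scalar operators as units. -/
noncomputable def scal (V : Type) [AddCommGroup V] [Module ℂ V] :
    ℂˣ →* (Module.End ℂ V)ˣ :=
  Units.map (algebraMap ℂ (Module.End ℂ V)).toMonoidHom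

omit [FiniteDimensional ℂ V] in
theorem scal_val (c : ℂˣ) : ((scal V c : (Module.End ℂ V)ˣ) : Module.End ℂ V) = (c : ℂ) • 1 := by
  simp [scal, Algebra.algebraMap_eq_smul_one]

theorem scal_of_commute (ρ : Representation ℂ E V) [ρ.IsIrreducible] (M : (Module.End ℂ V)ˣ)
    (h : ∀ e, (M : Module.End ℂ V) * ρ e = ρ e * (M : Module.End ℂ V)) :
    ∃ c : ℂˣ, M = scal V c := by
  have : Fintype E := Fintype.ofFinite E
  have : Nontrivial V := H12.nontrivial_of_isIrreducible ρ
  obtain ⟨c, hc⟩ := H12.exists_scalar_of_commute ρ (M : Module.End ℂ V) h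
  have hc0 : c ≠ 0 := by
    rintro rfl
    rw [zero_smul] at hc
    exact M.ne_zero hc
  exact ⟨Units.mk0 c hc0, Units.ext (by rw [scal_val, hc]; rfl)⟩

/-- Lifts exist for cyclic groups. -/
theorem lift_of_cyclic (X : XSpec E z) (ρ : Representation ℂ E V) [ρ.IsIrreducible]
    (hz : ρ z = -1) {H : Type v} [Group H] [Finite H] (hc : IsCyclic H) (φ : H →* MulAut E) :
    Lift ρ φ := by
  obtain ⟨g, hg⟩ := hc.exists_generator
  obtain ⟨M, hM⟩ := exists_intertwiner X ρ hz (φ g)
  let P : Subgroup (H × (Module.End ℂ V)ˣ) :=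
    { carrier := {x | ∀ e, (x.2 : Module.End ℂ V) * ρ e = ρ (φ x.1 e) * (x.2 : Module.End ℂ V)}
      one_mem' := by intro e; simp
      mul_mem' := by
        rintro ⟨a, A⟩ ⟨b, B⟩ hA hB e
        simp only [Prod.mk_mul_mk, Units.val_mul, map_mul, MulAut.mul_apply]
        rw [mul_assoc, hB e, ← mul_assoc, hA, mul_assoc]
      inv_mem' := by
        rintro ⟨a, A⟩ hA e
        simp only [Prod.inv_mk, map_inv]
        rw [Units.inv_mul_eq_iff_eq_mul, ← mul_assoc, hA, MulAut.apply_inv_self, mul_assoc,
          Units.mul_inv, mul_one] }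
  have hm0 : 0 < orderOf g := orderOf_pos g
  obtain ⟨c, hc'⟩ := scal_of_commute ρ (M ^ orderOf g) (fun e => by
    have h := (P.pow_mem (show (g, M) ∈ P from hM) (orderOf g)) e
    simpa [pow_orderOf_eq_one] using h)
  obtain ⟨d, hd⟩ := IsAlgClosed.exists_pow_nat_eq ((c : ℂ)⁻¹) hm0
  have hd0 : d ≠ 0 := by
    rintro rfl
    rw [zero_pow hm0.ne'] at hd
    exact inv_ne_zero c.ne_zero hd.symm
  set M' := scal V (Units.mk0 d hd0) * M with hM'
  have hM'P : (g, M') ∈ P := by
    intro e
    simp only [hM', Units.val_mul, scal_val, smul_mul_assoc, one_mul, hM e, mul_smul_comm]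
  have hcomm : Commute (scal V (Units.mk0 d hd0)) M := Units.ext (by
    simp [scal_val])
  have hpow : M' ^ orderOf g = 1 := by
    rw [hM', hcomm.mul_pow, hc', ← map_pow, ← map_mul,
      show Units.mk0 d hd0 ^ orderOf g * c = 1 from Units.ext (by simp [hd]), map_one]
  refine ⟨monoidHomOfForallMemZpowers hg (orderOf_dvd_of_pow_eq_one hpow), fun h e => ?_⟩
  obtain ⟨k, rfl⟩ := hg h
  simp only [map_zpow, monoidHomOfForallMemZpowers_apply_gen]
  have h := P.zpow_mem hM'P k
  simpa using h e

end H61.Dade
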